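import Mathlib.RingTheory.Smooth.Basic
import Mathlib.RingTheory.FinitePresentation
import Mathlib.RingTheory.Localization.AtPrime.Basic
import Mathlib.RingTheory.LocalRing.RingHom.Basic
import Mathlib.RingTheory.Smooth.Locus

/-! A lifting criterion for smoothness at a prime. -/

set_option autoImplicit false

universe u

namespace Groth.Agent.Stk19b.FlatQuot

variable {R Λ : Type u} [CommRing R] [CommRing Λ] [Algebra R Λ] [Algebra.FinitePresentation R Λ]

/-- Lifting along thickenings of the local ring gives smoothness at the prime. -/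
theorem isSmoothAt_of_lift (q : Ideal Λ) [q.IsPrime]
    (H : ∀ (B : Type u) [CommRing B] [IsLocalRing B] [Algebra R B] (π : B →ₐ[R] Localization.AtPrime q),
      Function.Surjective π → (∀ x y, π x = 0 → π y = 0 → x * y = 0) →
        ∃ σ : Λ →ₐ[R] B, ∀ a, π (σ a) = algebraMap Λ (Localization.AtPrime q) a) :
    Algebra.IsSmoothAt R q := by
  obtain ⟨n, f₀, hf₀⟩ := Algebra.FiniteType.iff_quotient_mvPolynomial''.1 (inferInstance : Algebra.FiniteType R Λ)
  let q₀ := q.comap f₀.toRingHom
  let P := Localization.AtPrime q₀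
  let f : P →ₐ[R] Localization.AtPrime q :=
    { Localization.localRingHom q₀ q f₀.toRingHom rfl with
      commutes' := fun r => by
        show Localization.localRingHom q₀ q f₀.toRingHom rfl (algebraMap R P r) = _
        rw [IsScalarTower.algebraMap_apply R (MvPolynomial (Fin n) R) P, Localization.localRingHom_to_map,
          IsScalarTower.algebraMap_apply R Λ (Localization.AtPrime q)]
        exact congrArg _ (f₀.commutes r) }
  have hfx : ∀ x, f (algebraMap _ P x) = algebraMap Λ _ (f₀ x) := fun x => Localization.localRingHom_to_map q₀ q _ rfl x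
  have hf : Function.Surjective f := fun y => by
    obtain ⟨⟨a, s⟩, has⟩ := IsLocalization.surj q.primeCompl y
    obtain ⟨a, rfl⟩ := hf₀ a
    obtain ⟨t, ht⟩ := hf₀ s.1
    have hts : t ∉ q₀ := fun h => s.2 (ht ▸ h)
    obtain ⟨i, hi⟩ := (IsLocalization.map_units P (⟨t, hts⟩ : q₀.primeCompl)).exists_right_inv
    refine ⟨algebraMap _ P a * i, ?_⟩
    rw [map_mul, hfx, ← has, ← ht, ← hfx, mul_assoc, ← map_mul, hi, map_one, mul_one]
  haveI : Algebra.FormallySmooth (MvPolynomial (Fin n) R) P := Algebra.FormallySmooth.of_isLocalization q₀.primeCompl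
  haveI : Algebra.FormallySmooth R P := Algebra.FormallySmooth.comp R (MvPolynomial (Fin n) R) P
  let B := P ⧸ RingHom.ker f.toRingHom ^ 2
  have hπ : Function.Surjective f.kerSquareLift := fun y => ⟨Ideal.Quotient.mk _ (hf y).choose, (hf y).choose_spec⟩
  haveI : Nontrivial B := f.kerSquareLift.toRingHom.domain_nontrivial
  haveI : IsLocalRing B := IsLocalRing.of_surjective' (Ideal.Quotient.mk _) Ideal.Quotient.mk_surjective
  have hsq : ∀ x y : B, f.kerSquareLift x = 0 → f.kerSquareLift y = 0 → x * y = 0 := fun x y hx hy => by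
    obtain ⟨x, rfl⟩ := Ideal.Quotient.mk_surjective x
    obtain ⟨y, rfl⟩ := Ideal.Quotient.mk_surjective y
    rw [← map_mul, Ideal.Quotient.eq_zero_iff_mem, pow_two]
    exact Ideal.mul_mem_mul hx hy
  obtain ⟨σ, hσ⟩ := H B f.kerSquareLift hπ hsq
  haveI : IsLocalHom f.kerSquareLift.toRingHom := IsLocalHom.of_surjective _ hπ
  have hu : ∀ s : q.primeCompl, IsUnit (σ.toRingHom s) := fun s =>
    IsLocalHom.map_nonunit (f := f.kerSquareLift.toRingHom) _ (by
      rw [show f.kerSquareLift.toRingHom (σ.toRingHom s) = algebraMap Λ (Localization.AtPrime q) s from hσ s.1]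
      exact IsLocalization.map_units _ s)
  refine Algebra.FormallySmooth.of_split f
    { IsLocalization.lift (M := q.primeCompl) hu with
      commutes' := fun r => by
        show IsLocalization.lift hu (algebraMap R (Localization.AtPrime q) r) = _
        rw [IsScalarTower.algebraMap_apply R Λ (Localization.AtPrime q), IsLocalization.lift_eq]
        exact σ.commutes r } ?_
  refine AlgHom.coe_ringHom_injective (IsLocalization.ringHom_ext q.primeCompl (RingHom.ext fun a => ?_))
  show f.kerSquareLift (IsLocalization.lift hu (algebraMap Λ (Localization.AtPrime q) a)) = _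
  rw [IsLocalization.lift_eq]
  exact hσ a

end Groth.Agent.Stk19b.FlatQuot
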