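import Groth.Agent.Stk19b.FlatQuot.Lift
import Mathlib.RingTheory.Jacobson.Ring
import Mathlib.RingTheory.Ideal.AssociatedPrime.Finiteness
import Mathlib.RingTheory.Ideal.AssociatedPrime.Localization
import Mathlib.RingTheory.HopkinsLevitzki
import Mathlib.RingTheory.FiniteType
import Mathlib.RingTheory.ZariskisMainTheorem
import Mathlib.RingTheory.Artinian.Algebra

/-! Zero-dimensional complete intersections in open subschemes of algebras over a field. -/

set_option autoImplicit false
set_option linter.style.haveILetI false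
set_option linter.unusedSectionVars false

universe u

open TensorProduct

namespace Groth.Agent.Stk19b.FlatQuot

variable {K : Type u} [CommRing K]

/-- Regularity after inverting `g`. -/
def RegAway (g : K) (rs : List K) : Prop :=
  ∀ (i : ℕ) (_ : i < rs.length) (x : K), rs[i] * x ∈ Ideal.ofList (rs.take i) →
    ∃ N : ℕ, g ^ N * x ∈ Ideal.ofList (rs.take i)

theorem exists_step [IsNoetherianRing K] [IsJacobsonRing K] (g : K) (rs : List K) (hreg : RegAway g rs)
    (P₁ : Ideal K) [P₁.IsPrime] (hI : Ideal.ofList rs ≤ P₁) (hg : g ∉ P₁) (hmax : ¬ P₁.IsMaximal) :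
    ∃ (g' f : K), RegAway g' (rs ++ [f]) ∧ Ideal.ofList rs < Ideal.ofList (rs ++ [f]) ∧
      ∃ m : Ideal K, m.IsPrime ∧ Ideal.ofList (rs ++ [f]) ≤ m ∧ g' ∉ m := by
  classical
  set I := Ideal.ofList rs with hIdef
  obtain ⟨P, hP, hPle⟩ := Ideal.exists_minimalPrimes_le (I := I) hI
  have hPp : P.IsPrime := hP.1.1
  have hPmax : ¬ P.IsMaximal := fun h => hmax (h.eq_of_le ‹P₁.IsPrime›.ne_top hPle ▸ h)
  have hgP : g ∉ P := fun h => hg (hPle h)
  have hfin := associatedPrimes.finite K (K ⧸ I)
  have hle : ∀ Q ∈ associatedPrimes K (K ⧸ I), I ≤ Q := fun Q hQ => by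
    refine le_trans ?_ hQ.annihilator_le
    rw [Submodule.annihilator_top, Ideal.annihilator_quotient]
  have hQ : ∀ Q ∈ hfin.toFinset.erase P, ∃ x ∈ Q, x ∉ P := fun Q hQ => by
    obtain ⟨hne, hQ⟩ := Finset.mem_erase.1 hQ
    have hQ' := hfin.mem_toFinset.1 hQ
    refine SetLike.not_le_iff_exists.1 fun h => hne (le_antisymm h ?_)
    exact hP.2 ⟨hQ'.isPrime, hle Q hQ'⟩ h
  choose! x hxQ hxP using hQ
  let g₀ := ∏ Q ∈ hfin.toFinset.erase P, x Q
  have hg₀ : g₀ ∉ P := fun h => by
    obtain ⟨Q, hQ, hxQ'⟩ := Ideal.IsPrime.prod_mem_iff.1 h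
    exact hxP Q hQ hxQ'
  have hgg : g * g₀ ∉ P := fun h => (hPp.mem_or_mem h).elim hgP hg₀
  obtain ⟨m, ⟨hPm, hm⟩, hgm⟩ : ∃ m : Ideal K, (P ≤ m ∧ m.IsMaximal) ∧ g * g₀ ∉ m := by
    by_contra! h
    refine hgg ?_
    rw [← (isJacobsonRing_iff.1 ‹IsJacobsonRing K› P hPp.isRadical), Ideal.jacobson, Ideal.mem_sInf]
    exact fun {J} hJ => h J hJ
  obtain ⟨f, hfm, hfP⟩ := SetLike.not_le_iff_exists.1
    (show ¬ m ≤ P from fun hle => hPmax (le_antisymm hle hPm ▸ hm))
  have hIP : I ≤ P := hP.1.2
  refine ⟨g * g₀, f, fun i hi y hy => ?_, ?_, m, hm.isPrime, ?_, hgm⟩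
  · rcases Nat.lt_or_ge i rs.length with h | h
    · rw [List.getElem_append_left h, List.take_append_of_le_length h.le] at hy
      obtain ⟨N, hN⟩ := hreg i h y hy
      refine ⟨N, ?_⟩
      rw [List.take_append_of_le_length h.le, mul_pow, mul_comm (g ^ N), mul_assoc]
      exact Ideal.mul_mem_left _ _ hN
    · obtain rfl : i = rs.length := le_antisymm (by simpa using Nat.lt_succ_iff.1 (by simpa using hi)) h
      rw [List.getElem_append_right le_rfl, List.take_left] at hy
      rw [List.take_left]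
      simp only [Nat.sub_self, List.getElem_cons_zero] at hy
      let N := Submodule.span K {(Ideal.Quotient.mk I y : K ⧸ I)}
      have hann : ∀ a, a ∈ Module.annihilator K N ↔ a * y ∈ I := fun a => by
        rw [Submodule.mem_annihilator_span_singleton]
        show Ideal.Quotient.mk I (a • y) = 0 ↔ _
        rw [Ideal.Quotient.eq_zero_iff_mem]
        rfl
      by_contra! hno
      have hrad : g * g₀ ∉ (Module.annihilator K N).radical := fun ⟨j, hj⟩ => hno j ((hann _).1 hj)
      rw [Ideal.radical_eq_sInf, Ideal.mem_sInf] at hrad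
      push Not at hrad
      obtain ⟨J, ⟨hJle, hJp⟩, hgJ⟩ := hrad
      haveI := hJp
      obtain ⟨Q, hQ, hQJ⟩ := Ideal.exists_minimalPrimes_le hJle
      have hQass := associatedPrimes.subset_of_injective (f := N.subtype) N.injective_subtype
        (Module.associatedPrimes.minimalPrimes_annihilator_subset_associatedPrimes K N hQ)
      have hfQ : f ∈ Q := hQ.1.2 ((hann f).2 hy)
      have hne : Q ≠ P := fun h => hfP (h ▸ hfQ)
      have hmem : x Q ∈ Q := hxQ Q (Finset.mem_erase.2 ⟨hne, hfin.mem_toFinset.2 hQass⟩)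
      exact hgJ (J.mul_mem_left _ (hQJ (Q.mem_of_dvd
        (Finset.dvd_prod_of_mem x (Finset.mem_erase.2 ⟨hne, hfin.mem_toFinset.2 hQass⟩)) hmem)))
  · refine lt_of_le_of_ne (by rw [Ideal.ofList_append]; exact le_sup_left) fun h => hfP (hIP ?_)
    rw [h]
    exact Ideal.subset_span (by simp)
  · rw [Ideal.ofList_append, Ideal.ofList_singleton]
    exact sup_le (hIP.trans hPm) ((Ideal.span_singleton_le_iff_mem m).2 hfm)

variable {k : Type u} [Field k] [Algebra k K]

/-- An open piece of a nonzero finitely generated algebra has a finite complete intersection. -/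
theorem exists_regAway [Algebra.FiniteType k K] [Nontrivial K] :
    ∃ (g : K) (rs : List K), RegAway g rs ∧ (∃ m : Ideal K, m.IsPrime ∧ Ideal.ofList rs ≤ m ∧ g ∉ m) ∧
      Module.Finite k (Localization.Away (Ideal.Quotient.mk (Ideal.ofList rs) g)) := by
  haveI : IsNoetherianRing K := Algebra.FiniteType.isNoetherianRing k K
  haveI : IsJacobsonRing K := isJacobsonRing_of_finiteType (A := k)
  suffices H : ∀ I : Ideal K, ∀ (g : K) (rs : List K), Ideal.ofList rs = I → RegAway g rs →
      (∃ m : Ideal K, m.IsPrime ∧ Ideal.ofList rs ≤ m ∧ g ∉ m) → ∃ (g : K) (rs : List K), RegAway g rs ∧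
        (∃ m : Ideal K, m.IsPrime ∧ Ideal.ofList rs ≤ m ∧ g ∉ m) ∧
        Module.Finite k (Localization.Away (Ideal.Quotient.mk (Ideal.ofList rs) g)) by
    obtain ⟨m, hm⟩ := Ideal.exists_maximal K
    exact H ⊥ 1 [] Ideal.ofList_nil (fun i hi => absurd hi (Nat.not_lt_zero i))
      ⟨m, hm.isPrime, Ideal.ofList_nil.le.trans bot_le, (Ideal.ne_top_iff_one m).1 hm.ne_top⟩
  intro I
  induction I using IsNoetherian.induction with
  | _ I ih =>
    intro g rs hI hreg hne
    by_cases hall : ∀ P : Ideal K, P.IsPrime → Ideal.ofList rs ≤ P → g ∉ P → P.IsMaximal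
    · refine ⟨g, rs, hreg, hne, ?_⟩
      set q := Ideal.Quotient.mk (Ideal.ofList rs) g
      haveI : Algebra.FiniteType k (K ⧸ Ideal.ofList rs) :=
        ‹Algebra.FiniteType k K›.of_surjective (Ideal.Quotient.mkₐ k _) (Ideal.Quotient.mkₐ_surjective k _)
      haveI : Algebra.FiniteType (K ⧸ Ideal.ofList rs) (Localization.Away q) :=
        IsLocalization.finiteType_of_monoid_fg (Submonoid.powers q) _
      haveI : Algebra.FiniteType k (Localization.Away q) := Algebra.FiniteType.trans (S := K ⧸ Ideal.ofList rs) ‹_› ‹_›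
      haveI : Ring.KrullDimLE 0 (Localization.Away q) := Ring.krullDimLE_zero_iff.2 fun M hM => by
        obtain ⟨N, hN, hMN⟩ := Ideal.exists_le_maximal _ hM.ne_top
        let φ := algebraMap (K ⧸ Ideal.ofList rs) (Localization.Away q)
        let P := M.comap (φ.comp (Ideal.Quotient.mk _))
        have hP : P.IsPrime := Ideal.IsPrime.comap _
        have hPI : Ideal.ofList rs ≤ P := fun x hx => by
          show φ (Ideal.Quotient.mk _ x) ∈ M
          rw [Ideal.Quotient.eq_zero_iff_mem.2 hx, map_zero]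
          exact M.zero_mem
        have hgP : g ∉ P := fun h => hM.ne_top
          (Ideal.eq_top_of_isUnit_mem _ h (IsLocalization.Away.algebraMap_isUnit q))
        have hPN : P = N.comap (φ.comp (Ideal.Quotient.mk _)) :=
          (hall P hP hPI hgP).eq_of_le (Ideal.IsPrime.comap _ (hK := hN.isPrime)).ne_top (Ideal.comap_mono hMN)
        have h1 : M.comap φ = N.comap φ := by
          rw [← Ideal.map_comap_of_surjective (Ideal.Quotient.mk (Ideal.ofList rs)) Ideal.Quotient.mk_surjective (M.comap φ),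
            Ideal.comap_comap]
          exact (congrArg _ hPN).trans (by rw [← Ideal.comap_comap,
            Ideal.map_comap_of_surjective _ Ideal.Quotient.mk_surjective])
        have h2 : M = N := by
          exact (IsLocalization.map_under (Submonoid.powers q) (Localization.Away q) M).symm.trans
            ((congrArg (Ideal.map φ) h1).trans (IsLocalization.map_under (Submonoid.powers q) (Localization.Away q) N))
        exact h2 ▸ hN
      haveI : IsNoetherianRing (Localization.Away q) := Algebra.FiniteType.isNoetherianRing k _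
      exact (Module.finite_iff_isArtinianRing k _).2 (isArtinianRing_iff_krullDimLE_zero.2 inferInstance)
    · push Not at hall
      obtain ⟨P, hP, hPI, hgP, hPm⟩ := hall
      obtain ⟨g', f, hreg', hlt, hne'⟩ := exists_step g rs hreg P hPI hgP hPm
      exact ih _ (hI ▸ hlt) g' _ rfl hreg' hne'

variable {R A : Type u} [CommRing R] [CommRing A] [Algebra R A] [Algebra R k] [Algebra.FinitePresentation R A]

/-- Every nonzero fibre has good data. -/
theorem exists_good [Nontrivial (k ⊗[R] A)] : ∃ (d : ℕ) (P : Fam (d + 1) R A k), Nonempty (Good P) := by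
  haveI : Algebra.FiniteType k (k ⊗[R] A) := inferInstance
  obtain ⟨g, rs, hreg, ⟨m, hm, hrm, hgm⟩, hfin⟩ := exists_regAway (k := k) (K := k ⊗[R] A)
  let I := Ideal.ofList rs
  let q := Ideal.Quotient.mk I g
  let L := Localization.Away q
  haveI : Module.Finite k L := hfin
  haveI : Nontrivial L := by
    by_contra hn
    rw [not_nontrivial_iff_subsingleton, IsLocalization.subsingleton_iff (M := Submonoid.powers q)] at hn
    obtain ⟨j, hj⟩ := hn
    have hj' : g ^ j ∈ I := Ideal.Quotient.eq_zero_iff_mem.1 (by rw [map_pow]; exact hj)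
    exact hgm (hm.mem_of_pow_mem j (hrm hj'))
  obtain ⟨d, hd⟩ : ∃ d, Module.finrank k L = d + 1 :=
    ⟨Module.finrank k L - 1, (Nat.succ_pred_eq_of_pos Module.finrank_pos).symm⟩
  let b := Module.finBasisOfFinrankEq k L hd
  let φ : k ⊗[R] A →ₐ[k] L := (IsScalarTower.toAlgHom k ((k ⊗[R] A) ⧸ I) L).comp (Ideal.Quotient.mkₐ k I)
  have hφ : Function.Surjective φ := by
    let S := φ.range
    let gS : S := ⟨φ g, g, rfl⟩
    have hu : IsUnit (φ g) := IsLocalization.Away.algebraMap_isUnit q
    have hinj : Function.Injective (LinearMap.mulLeft k gS) := fun a c h =>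
      Subtype.ext (hu.mul_left_cancel (congrArg Subtype.val h))
    haveI : FiniteDimensional k S := FiniteDimensional.finiteDimensional_submodule (Subalgebra.toSubmodule S)
    obtain ⟨⟨_, i, rfl⟩, hi⟩ := LinearMap.injective_iff_surjective.1 hinj 1
    have hi' : φ g * φ i = 1 := congrArg Subtype.val hi
    intro y
    obtain ⟨⟨a, ⟨_, j, rfl⟩⟩, ha⟩ := IsLocalization.surj (Submonoid.powers q) y
    obtain ⟨a, rfl⟩ := Ideal.Quotient.mk_surjective a
    refine ⟨a * i ^ j, ?_⟩
    have ha' : y * φ g ^ j = φ a := by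
      refine Eq.trans ?_ ha
      show _ = y * algebraMap _ L (q ^ j)
      rw [map_pow]
      rfl
    rw [map_mul, ← ha', map_pow, mul_assoc, ← mul_pow, hi', one_pow, mul_one]
  let e := Tab.ofBasisEquiv b
  refine ⟨d, ⟨Tab.ofBasis b, e.symm.toAlgHom.comp φ⟩, ⟨⟨g, rs, e.symm.surjective.comp hφ, ?_, ?_, ?_, hreg⟩⟩⟩
  · exact (IsLocalization.Away.algebraMap_isUnit q).map e.symm.toAlgHom
  · intro r hr
    show e.symm (algebraMap _ L (Ideal.Quotient.mk I r)) = 0
    rw [Ideal.Quotient.eq_zero_iff_mem.2 (show r ∈ I from Ideal.subset_span (s := {x | x ∈ rs}) hr), map_zero, map_zero]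
  · intro x hx
    have h1 : algebraMap _ L (Ideal.Quotient.mk I x) = 0 := e.symm.injective (hx.trans (map_zero _).symm)
    obtain ⟨⟨_, j, rfl⟩, hj⟩ := (IsLocalization.map_eq_zero_iff (Submonoid.powers q) L _).1 h1
    refine ⟨j, Ideal.Quotient.eq_zero_iff_mem.1 ?_⟩
    rw [map_mul, map_pow]
    exact hj

end Groth.Agent.Stk19b.FlatQuot
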