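import Groth.Agent.Stk19b.FlatQuot.Point
import Groth.Agent.Stk19b.FlatQuot.RegData
import Groth.Agent.Stk19b.FlatQuot.Crit
import Mathlib.AlgebraicGeometry.Morphisms.Smooth
import Mathlib.AlgebraicGeometry.AffineSpace
import Mathlib.RingTheory.LocalRing.ResidueField.Ideal

/-! Every point of the base is the image of a smooth point of the scheme of framed maps. -/

set_option autoImplicit false
set_option linter.style.haveILetI false
set_option linter.unusedSectionVars false
set_option backward.isDefEq.respectTransparency false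
set_option backward.isDefEq.respectTransparency.types false

universe u

open CategoryTheory CategoryTheory.Limits AlgebraicGeometry TensorProduct
open MonoidalCategory CartesianMonoidalCategory MonObj

noncomputable section

namespace Groth.Agent.Stk19b.FlatQuot

variable {S : Scheme.{u}}

/-- The structure map of the ring of tables. -/
def urHom (d : ℕ) : ULift.{u} ℤ →+* UR.{u} d :=
  (ULift.ringEquiv.{0, u} (R := TabRing (d + 1))).symm.toRingHom.comp
    ((algebraMap ℤ (TabRing (d + 1))).comp (ULift.ringEquiv.{0, u} (R := ℤ)).toRingHom)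

theorem fp_UR (d : ℕ) : (urHom.{u} d).FinitePresentation := by
  haveI : Algebra.FinitePresentation ℤ (TabRing (d + 1)) :=
    Algebra.FinitePresentation.quotient (IsNoetherian.noetherian (tabIdeal (d + 1)))
  exact (RingHom.FinitePresentation.of_bijective (ULift.ringEquiv.{0, u} (R := TabRing (d + 1))).symm.bijective).comp
    ((RingHom.finitePresentation_algebraMap.2 inferInstance).comp
      (RingHom.FinitePresentation.of_bijective (ULift.ringEquiv.{0, u} (R := ℤ)).bijective))

theorem lfp_cS : LocallyOfFinitePresentation (cS S).hom := by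
  have hsq : IsPullback (prod.fst : S ⨯ (∐ cPiece.{u}) ⟶ S) prod.snd (terminal.from S) (terminal.from _) :=
    IsPullback.of_isLimit_binaryFan_of_isTerminal (prodIsProd _ _) terminalIsTerminal
  refine MorphismProperty.of_isPullback (P := @LocallyOfFinitePresentation) hsq.flip ?_
  have e : terminal.from (∐ cPiece.{u}) = Sigma.desc fun i => terminal.from (cPiece.{u} i) :=
    terminalIsTerminal.hom_ext _ _
  rw [e]
  refine IsZariskiLocalAtSource.sigmaDesc (P := @LocallyOfFinitePresentation) fun i => ?_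
  haveI : IsIso (terminal.from (Spec (CommRingCat.of (ULift.{u} ℤ)))) :=
    isIso_of_isTerminal specULiftZIsTerminal terminalIsTerminal _
  rw [show terminal.from (cPiece.{u} i) = Spec.map (CommRingCat.ofHom (urHom.{u} i.down)) ≫
    terminal.from _ from terminalIsTerminal.hom_ext _ _, MorphismProperty.cancel_right_of_respectsIso (P := @LocallyOfFinitePresentation)]
  exact (HasRingHomProperty.Spec_iff (P := @LocallyOfFinitePresentation)).2 (fp_UR.{u} i.down)

theorem lfp_M {G : Over S} (U : Univ G) (hG : LocallyOfFinitePresentation G.hom) :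
    LocallyOfFinitePresentation U.M.hom := by
  rw [← Over.w U.π]
  exact MorphismProperty.comp_mem _ _ _ (U.lfp hG) lfp_cS

theorem closedPoint_range {B : Type u} [CommRing B] [IsLocalRing B] {X : Scheme.{u}}
    (f : Spec (CommRingCat.of B) ⟶ X) {V : X.Opens} (h : f (IsLocalRing.closedPoint B) ∈ V) :
    Set.range f ⊆ (V : Set X) := by
  rintro _ ⟨x, rfl⟩
  exact ((IsLocalRing.specializes_closedPoint x).map f.continuous).mem_open V.2 h

theorem exists_chart (G : Over S) [GrpObj G] [Flat G.hom] [LocallyOfFinitePresentation G.hom] [IsAffineHom G.hom]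
    {W : S.Opens} (hW : IsAffineOpen W) :
    ∃ (A : CommRingCat.{u}) (_ : Algebra Γ(S, W) A) (C : Chart G Γ(S, W) A), C.j = hW.fromSpec ∧
      Module.Flat Γ(S, W) A ∧ Algebra.FinitePresentation Γ(S, W) A ∧
      ∃ r : A →+* Γ(S, W), r.comp (algebraMap Γ(S, W) A) = RingHom.id _ := by
  let R := Γ(S, W)
  let P := pullback G.hom hW.fromSpec
  haveI : IsAffineHom (pullback.snd G.hom hW.fromSpec) :=
    MorphismProperty.pullback_snd (P := @IsAffineHom) _ _ inferInstance
  haveI : IsAffine P := isAffine_of_isAffineHom (pullback.snd G.hom hW.fromSpec)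
  let A := Γ(P, ⊤)
  let g₀ : Spec A ⟶ Spec R := P.isoSpec.inv ≫ pullback.snd G.hom hW.fromSpec
  letI : Algebra R A := (Spec.preimage g₀).hom.toAlgebra
  have hg₀ : Spec.map (CommRingCat.ofHom (algebraMap R A)) = g₀ := Spec.map_preimage g₀
  have hflat : Flat g₀ := MorphismProperty.comp_mem _ _ _ inferInstance
    (MorphismProperty.pullback_snd (P := @Flat) _ _ inferInstance)
  have hlfp : LocallyOfFinitePresentation g₀ := MorphismProperty.comp_mem _ _ _ inferInstance
    (MorphismProperty.pullback_snd (P := @LocallyOfFinitePresentation) _ _ inferInstance)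
  rw [← hg₀] at hflat hlfp
  have hgA : (P.isoSpec.inv ≫ pullback.fst G.hom hW.fromSpec) ≫ G.hom = g₀ ≫ hW.fromSpec := by
    simp [g₀, pullback.condition]
  let C : Chart G R A :=
    { j := hW.fromSpec
      imm := inferInstance
      gA := P.isoSpec.inv ≫ pullback.fst _ _
      pb := by
        rw [hg₀]
        exact IsPullback.of_iso_pullback ⟨hgA⟩ P.isoSpec.symm rfl rfl }
  refine ⟨A, _, C, rfl, RingHom.flat_algebraMap_iff.1 ((HasRingHomProperty.Spec_iff (P := @Flat)).1 hflat),
    RingHom.finitePresentation_algebraMap.1 ((HasRingHomProperty.Spec_iff (P := @LocallyOfFinitePresentation)).1 hlfp), ?_⟩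
  let σ : Spec R ⟶ G.left := (toUnit (Over.mk hW.fromSpec) ≫ η[G]).left
  have hσ : σ ≫ G.hom = hW.fromSpec := Over.w (toUnit (Over.mk hW.fromSpec) ≫ η[G])
  have hσ' : σ ≫ G.hom = 𝟙 (Spec R) ≫ C.j := hσ.trans (Category.id_comp _).symm
  obtain ⟨r, hr⟩ := Spec.map_surjective (C.pb.lift σ (𝟙 _) hσ')
  refine ⟨r.hom, ?_⟩
  have h1 := C.pb.lift_snd σ (𝟙 _) hσ'
  rw [← hr, ← Spec.map_comp, ← Spec.map_id, Spec.map_inj] at h1
  exact congrArg CommRingCat.Hom.hom h1

theorem isSmoothAt_aux {G : Over S} (U : Univ G) {R A k : Type u} [CommRing R] [CommRing A] [Field k]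
    [Algebra R A] [Algebra R k] [Module.Flat R A] [Algebra.FinitePresentation R A] (C : Chart G R A)
    (hfrac : ∀ x : k, ∃ a b : R, algebraMap R k b ≠ 0 ∧ algebraMap R k a = x * algebraMap R k b)
    {d : ℕ} (Pk : Fam (d + 1) R A k) (Gd : Good Pk) {V : U.M.left.Opens} (hV : IsAffineOpen V)
    [Algebra R Γ(U.M.left, V)] [Algebra.FinitePresentation R Γ(U.M.left, V)]
    (hΛ : Spec.map (CommRingCat.ofHom (algebraMap R Γ(U.M.left, V))) ≫ C.j = hV.fromSpec ≫ U.M.hom)
    (χ : Γ(U.M.left, V) →ₐ[R] k) (hχ : Spec.map (CommRingCat.ofHom χ.toRingHom) ≫ hV.fromSpec = (C.pt Pk U).left)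
    (factor : ∀ {B : Type u} [CommRing B] [Algebra R B] [IsLocalRing B] (v : C.T B ⟶ U.M),
      v.left (IsLocalRing.closedPoint B) ∈ V →
        ∃ χ : Γ(U.M.left, V) →ₐ[R] B, Spec.map (CommRingCat.ofHom χ.toRingHom) ≫ hV.fromSpec = v.left) :
    haveI : (RingHom.ker χ.toRingHom).IsPrime := RingHom.ker_isPrime _
    Algebra.IsSmoothAt R (RingHom.ker χ.toRingHom) := by
  haveI := C.imm
  let Λ := Γ(U.M.left, V)
  let q := RingHom.ker χ.toRingHom
  haveI : q.IsPrime := RingHom.ker_isPrime _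
  let yk := C.pt Pk U
  let y := yk.left (IsLocalRing.closedPoint k)
  have hyV : y ∈ V := by
    show yk.left (IsLocalRing.closedPoint k) ∈ V
    rw [← hχ, Scheme.Hom.comp_apply]
    exact hV.range_fromSpec.le ⟨_, rfl⟩
  refine isSmoothAt_of_lift q fun B _ _ _ π hπ hJ => ?_
  let B₀ := Localization.AtPrime q
  have hu : ∀ a : q.primeCompl, IsUnit (χ a.1) := fun a => isUnit_iff_ne_zero.2 fun h => a.2 h
  let ψ : B₀ →ₐ[R] k :=
    { IsLocalization.lift (M := q.primeCompl) (g := χ.toRingHom) hu with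
      commutes' := fun r => by
        show IsLocalization.lift _ (algebraMap R B₀ r) = _
        rw [IsScalarTower.algebraMap_apply R Λ B₀, IsLocalization.lift_eq]
        exact χ.commutes r }
  have hψχ : ψ.toRingHom.comp (algebraMap Λ B₀) = χ.toRingHom := RingHom.ext fun a => IsLocalization.lift_eq _ _
  have hψ : Function.Surjective ψ := fun x => by
    obtain ⟨a, b, hbp, hab⟩ := hfrac x
    have hbq : algebraMap R Λ b ∈ q.primeCompl := fun h => hbp (by rw [← χ.commutes]; exact h)
    obtain ⟨i, hi⟩ := (IsLocalization.map_units B₀ (⟨_, hbq⟩ : q.primeCompl)).exists_right_inv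
    refine ⟨algebraMap R B₀ a * i, ?_⟩
    rw [map_mul, AlgHom.commutes]
    have h2 : algebraMap R k b * ψ i = 1 := by
      have h3 := congrArg ψ hi
      rw [map_mul, map_one, ← IsScalarTower.algebraMap_apply R Λ B₀, AlgHom.commutes] at h3
      exact h3
    rw [hab, _root_.mul_assoc, h2, _root_.mul_one]
  let v₀ : C.T B₀ ⟶ U.M := Over.homMk (Spec.map (CommRingCat.ofHom (algebraMap Λ B₀)) ≫ hV.fromSpec) (by
    show _ = Spec.map _ ≫ C.j
    rw [Category.assoc, ← hΛ, ← Spec.map_comp_assoc, ← CommRingCat.ofHom_comp, ← IsScalarTower.algebraMap_eq])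
  have hv₀ : C.Tmap ψ ≫ v₀ = yk := Over.OverMorphism.ext (by
    show Spec.map (CommRingCat.ofHom ψ.toRingHom) ≫ Spec.map _ ≫ hV.fromSpec = _
    rw [← Spec.map_comp_assoc, ← CommRingCat.ofHom_comp, hψχ, hχ])
  haveI : IsLocalHom ψ.toRingHom := IsLocalHom.of_surjective _ hψ
  have hclosed : (C.Tmap ψ).left (IsLocalRing.closedPoint k) = IsLocalRing.closedPoint B₀ :=
    IsLocalRing.comap_closedPoint ψ.toRingHom
  have hcl₀ : v₀.left (IsLocalRing.closedPoint B₀) = y := by
    rw [← hclosed]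
    exact congrArg (fun f => f.left (IsLocalRing.closedPoint k)) hv₀
  obtain ⟨θ₀, hθ₀⟩ : ∃ θ : UR.{u} d →+* B₀,
      (v₀ ≫ U.π).left ≫ prod.snd = Spec.map (CommRingCat.ofHom θ) ≫ Sigma.ι cPiece.{u} ⟨d⟩ := by
    let f := (v₀ ≫ U.π).left ≫ prod.snd
    have h1 : f (IsLocalRing.closedPoint B₀) ∈ (Sigma.ι cPiece.{u} ⟨d⟩).opensRange := by
      have h2 : C.Tmap ψ ≫ v₀ ≫ U.π = C.c Pk := by rw [← Category.assoc, hv₀]; exact C.pt_π Pk U
      have h3 := congrArg (fun g : C.T k ⟶ cS S => (g.left ≫ prod.snd) (IsLocalRing.closedPoint k)) h2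
      simp only [C.c_snd] at h3
      refine ⟨_, h3.symm.trans ?_⟩
      rw [← hclosed]
      rfl
    obtain ⟨θ, hθ⟩ := Spec.map_surjective (IsOpenImmersion.lift (Sigma.ι cPiece.{u} ⟨d⟩) f
      (closedPoint_range f h1))
    exact ⟨θ.hom, by rw [CommRingCat.ofHom_hom, hθ, IsOpenImmersion.lift_fac]⟩
  obtain ⟨P₀, hP₀⟩ := C.exists_pt U v₀ θ₀ hθ₀
  obtain ⟨PB, hPB⟩ := exists_lift π hπ hJ ψ hψ P₀ Pk ((C.isBC_iff U).1 (by rw [hP₀, hv₀])) Gd
  have hv : C.Tmap π ≫ C.pt PB U = v₀ := hP₀ ▸ (C.isBC_iff U).2 hPB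
  haveI : IsLocalHom π.toRingHom := IsLocalHom.of_surjective _ hπ
  obtain ⟨σ, hσ⟩ := factor (C.pt PB U) (by
    rw [show IsLocalRing.closedPoint B = (C.Tmap π).left (IsLocalRing.closedPoint B₀) from
      (IsLocalRing.comap_closedPoint π.toRingHom).symm,
      show (C.pt PB U).left ((C.Tmap π).left (IsLocalRing.closedPoint B₀)) = y from
        (congrArg (fun f => f.left (IsLocalRing.closedPoint B₀)) hv).trans hcl₀]
    exact hyV)
  refine ⟨σ, fun a => ?_⟩
  have h := congrArg CommaMorphism.left hv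
  simp only [Over.comp_left] at h
  rw [← hσ] at h
  change Spec.map _ ≫ Spec.map _ ≫ hV.fromSpec = Spec.map _ ≫ hV.fromSpec at h
  rw [← Spec.map_comp_assoc, cancel_mono, Spec.map_inj] at h
  exact RingHom.congr_fun (congrArg CommRingCat.Hom.hom h) a

theorem exists_smooth_point {G : Over S} [GrpObj G] [Flat G.hom] [LocallyOfFinitePresentation G.hom]
    [IsAffineHom G.hom] (U : Univ G) [LocallyOfFinitePresentation U.M.hom] (s : S) :
    ∃ y, U.M.hom y = s ∧ y ∈ U.M.hom.smoothLocus := by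
  obtain ⟨_, ⟨W, hW, rfl⟩, hsW, -⟩ :=
    S.isBasis_affineOpens.exists_subset_of_mem_open (Set.mem_univ s) isOpen_univ
  obtain ⟨A, _, C, hCj, _, _, r, hr⟩ := exists_chart G hW
  let R := Γ(S, W)
  haveI : IsOpenImmersion C.j := C.imm
  -- the point of the base
  let p := (hW.primeIdealOf ⟨s, hsW⟩).asIdeal
  let k := p.ResidueField
  haveI : Nontrivial (k ⊗[R] A) := by
    let rA : A →ₐ[R] R := { r with commutes' := fun x => RingHom.congr_fun hr x }
    exact (Algebra.TensorProduct.lift (Algebra.ofId k k) ((Algebra.ofId R k).comp rA)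
      fun _ _ => Commute.all _ _).toRingHom.domain_nontrivial
  obtain ⟨d, Pk, ⟨Gd⟩⟩ := exists_good (k := k) (R := R) (A := A)
  let yk := C.pt Pk U
  let y := yk.left (IsLocalRing.closedPoint k)
  have hys : U.M.hom y = s := by
    show (yk.left ≫ U.M.hom) (IsLocalRing.closedPoint k) = s
    rw [Over.w yk]
    show C.j (PrimeSpectrum.comap (algebraMap R k) (IsLocalRing.closedPoint k)) = s
    rw [hCj]
    show hW.fromSpec (PrimeSpectrum.comap (algebraMap R k) (IsLocalRing.closedPoint k)) = s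
    rw [show PrimeSpectrum.comap (algebraMap R k) (IsLocalRing.closedPoint k) = hW.primeIdealOf ⟨s, hsW⟩ from
      PrimeSpectrum.ext (by
        show (IsLocalRing.maximalIdeal k).comap (algebraMap R k) = p
        rw [IsLocalRing.maximalIdeal_eq_bot, ← RingHom.ker_eq_comap_bot, Ideal.ker_algebraMap_residueField])]
    exact hW.fromSpec_primeIdealOf _
  refine ⟨y, hys, ?_⟩
  obtain ⟨_, ⟨V, hV, rfl⟩, hyV, hVW⟩ := U.M.left.isBasis_affineOpens.exists_subset_of_mem_open
    (show y ∈ U.M.hom ⁻¹ᵁ W by show U.M.hom y ∈ W; rw [hys]; exact hsW) (U.M.hom ⁻¹ᵁ W).2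
  let Λ := Γ(U.M.left, V)
  letI : Algebra R Λ := (U.M.hom.appLE W V hVW).hom.toAlgebra
  haveI : Algebra.FinitePresentation R Λ := U.M.hom.finitePresentation_appLE hW hV hVW
  have hΛ : Spec.map (CommRingCat.ofHom (algebraMap R Λ)) ≫ hW.fromSpec = hV.fromSpec ≫ U.M.hom :=
    IsAffineOpen.SpecMap_appLE_fromSpec _ hW hV hVW
  have factor : ∀ {B : Type u} [CommRing B] [Algebra R B] [IsLocalRing B] (v : C.T B ⟶ U.M),
      v.left (IsLocalRing.closedPoint B) ∈ V →
        ∃ χ : Λ →ₐ[R] B, Spec.map (CommRingCat.ofHom χ.toRingHom) ≫ hV.fromSpec = v.left := by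
    intro B _ _ _ v hv
    obtain ⟨χ, hχ⟩ := Spec.map_surjective (IsOpenImmersion.lift hV.fromSpec v.left
      ((closedPoint_range v.left hv).trans hV.range_fromSpec.ge))
    have h1 : Spec.map χ ≫ hV.fromSpec = v.left := by rw [hχ]; exact IsOpenImmersion.lift_fac _ _ _
    have h2 : χ.hom.comp (algebraMap R Λ) = algebraMap R B := by
      have h3 : (Spec.map χ ≫ Spec.map (CommRingCat.ofHom (algebraMap R Λ))) ≫ hW.fromSpec =
          Spec.map (CommRingCat.ofHom (algebraMap R B)) ≫ hW.fromSpec := by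
        rw [Category.assoc, hΛ, ← Category.assoc, h1, ← hCj]
        exact Over.w v
      rw [cancel_mono, ← Spec.map_comp, Spec.map_inj] at h3
      exact congrArg CommRingCat.Hom.hom h3
    exact ⟨{ χ.hom with commutes' := fun r => RingHom.congr_fun h2 r }, h1⟩
  obtain ⟨χ, hχ⟩ := factor yk hyV
  let q := RingHom.ker χ.toRingHom
  haveI : q.IsPrime := RingHom.ker_isPrime _
  have hqy : hV.primeIdealOf ⟨y, hyV⟩ = ⟨q, inferInstance⟩ := by
    apply hV.fromSpec.isOpenEmbedding.injective
    rw [hV.fromSpec_primeIdealOf]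
    show yk.left (IsLocalRing.closedPoint k) = _
    rw [← hχ, Scheme.Hom.comp_apply]
    congr 1
    refine PrimeSpectrum.ext ?_
    show (IsLocalRing.maximalIdeal k).comap χ.toRingHom = q
    rw [IsLocalRing.maximalIdeal_eq_bot, ← RingHom.ker_eq_comap_bot]
  rw [Scheme.Hom.mem_smoothLocus, formallySmooth_stalkMap_iff W hW V hV hVW hyV, hqy]
  refine isSmoothAt_aux U C (fun x => ?_) Pk Gd hV (hCj ▸ hΛ) χ hχ factor
  obtain ⟨a, b, hb, rfl⟩ := IsFractionRing.div_surjective (R ⧸ p) x
  obtain ⟨a, rfl⟩ := Ideal.Quotient.mk_surjective a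
  obtain ⟨b, rfl⟩ := Ideal.Quotient.mk_surjective b
  have hb' : algebraMap R k b ≠ 0 := fun h => by
    refine nonZeroDivisors.ne_zero hb (Ideal.Quotient.eq_zero_iff_mem.2 ?_)
    rwa [← Ideal.algebraMap_residueField_eq_zero]
  exact ⟨a, b, hb', by rw [eq_comm, ← Ideal.Quotient.algebraMap_eq, ← IsScalarTower.algebraMap_apply, ← IsScalarTower.algebraMap_apply, div_mul_cancel₀ _ hb']⟩

end Groth.Agent.Stk19b.FlatQuot
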