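import Groth.Agent.Stk19b.FlatQuot.Atlas
import Groth.Agent.Stk19b.FlatQuot.Smooth
import Groth.Agent.AlgGrpLib.ActionShear
import Groth.Agent.S2155

/-! Quotient stacks by flat, locally finitely presented, affine groups are algebraic. -/

set_option autoImplicit false
set_option linter.style.haveILetI false
set_option backward.isDefEq.respectTransparency false
set_option backward.isDefEq.respectTransparency.types false

universe u

open CategoryTheory CategoryTheory.Limits AlgebraicGeometry MonoidalCategory CartesianMonoidalCategory MonObj GrpObj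
open Groth.Agent.Stk19b.QuotTriv

noncomputable section

namespace Groth.Agent.Stk19b.FlatQuot

variable {S : Scheme.{u}} {G M : Over S} [GrpObj G]

/-- An action preserves the smooth locus. -/
theorem act_preimage_smoothLocus (a : AlgGrp.Action G M) [LocallyOfFinitePresentation M.hom] [Flat G.hom] :
    a.act.left ⁻¹ᵁ M.hom.smoothLocus = (snd G M).left ⁻¹ᵁ M.hom.smoothLocus := by
  have hsq : IsPullback (snd G M).left (fst G M).left M.hom G.hom := (IsPullback.of_hasPullback G.hom M.hom).flip
  haveI : LocallyOfFinitePresentation (fst G M).left :=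
    MorphismProperty.of_isPullback (P := @LocallyOfFinitePresentation) hsq inferInstance
  have h := Groth.Agent.S2155.result M.hom G.hom (fst G M).left (snd G M).left hsq (Or.inr inferInstance)
  let σ := AlgGrpLib.shearIso a
  haveI : IsIso σ.hom.left := inferInstanceAs (IsIso ((Over.forget S).map σ.hom))
  have e : a.act.left = σ.hom.left ≫ (snd G M).left := by
    rw [← Over.comp_left, AlgGrpLib.shearIso_hom_snd]
  rw [e, Scheme.Hom.comp_preimage, ← h, Scheme.Hom.preimage_smoothLocus_eq]
  congr 1
  exact congrArg CommaMorphism.left (lift_fst (fst G M) a.act)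

/-- The open subobject. -/
abbrev openObj (V : M.left.Opens) : Over S := Over.mk (V.ι ≫ M.hom)

/-- Its inclusion. -/
abbrev openIncl (V : M.left.Opens) : openObj V ⟶ M := Over.homMk V.ι rfl

theorem exists_restrict (a : AlgGrp.Action G M) (V : M.left.Opens)
    (hV : a.act.left ⁻¹ᵁ V = (snd G M).left ⁻¹ᵁ V) :
    ∃ b : AlgGrp.Action G (openObj V), b.act ≫ openIncl V = (G ◁ openIncl V) ≫ a.act := by
  let i := openIncl V
  haveI : Mono i := Over.mono_of_mono_left i
  have hr : Set.range ((G ◁ i) ≫ a.act).left ⊆ Set.range V.ι := by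
    rintro _ ⟨w, rfl⟩
    rw [Scheme.Opens.range_ι]
    show (G ◁ i).left w ∈ a.act.left ⁻¹ᵁ V
    rw [hV]
    show (snd G M).left ((G ◁ i).left w) ∈ V
    rw [← Scheme.Hom.comp_apply, ← Over.comp_left, whiskerLeft_snd, Over.comp_left, Scheme.Hom.comp_apply]
    exact V.range_ι.le ⟨_, rfl⟩
  let act' : G ⊗ openObj V ⟶ openObj V := Over.homMk (IsOpenImmersion.lift V.ι ((G ◁ i) ≫ a.act).left hr) (by
    show _ ≫ V.ι ≫ M.hom = _
    rw [IsOpenImmersion.lift_fac_assoc]
    exact Over.w ((G ◁ i) ≫ a.act))
  have hact : act' ≫ i = (G ◁ i) ≫ a.act := Over.OverMorphism.ext (IsOpenImmersion.lift_fac _ _ _)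
  refine ⟨⟨act', ?_, ?_⟩, hact⟩
  · rw [← cancel_mono i, Category.assoc, hact, ← MonoidalCategory.whisker_exchange_assoc, a.one_act,
      MonoidalCategory.leftUnitor_naturality]
  · rw [← cancel_mono i, Category.assoc, hact, ← MonoidalCategory.whisker_exchange_assoc, a.mul_act,
      Category.assoc, Category.assoc, hact, ← MonoidalCategory.whiskerLeft_comp_assoc, hact,
      MonoidalCategory.whiskerLeft_comp_assoc]
    simp

/-- **Quotients by flat, locally finitely presented, affine groups are algebraic stacks.** -/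
theorem isAlgStack_quotSt (G : Over S) [GrpObj G] [Flat G.hom] [LocallyOfFinitePresentation G.hom]
    [IsAffineHom G.hom] (X : Over S) (aX : AlgGrp.Action G X) :
    AlgSt.IsAlgStack Scheme.fppfPrecoverage (AlgSt.QuotSt Scheme.fppfPrecoverage G aX) := by
  obtain ⟨U⟩ := exists_univ G
  haveI : LocallyOfFinitePresentation U.M.hom := lfp_M U inferInstance
  let V := U.M.hom.smoothLocus
  obtain ⟨b, hb⟩ := exists_restrict U.action V (act_preimage_smoothLocus U.action)
  haveI : Smooth (openObj V).hom := by
    show Smooth (V.ι ≫ U.M.hom)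
    rw [← Scheme.Hom.smoothLocus_eq_top_iff, ← Scheme.Hom.preimage_smoothLocus_eq, Scheme.Opens.ι_preimage_self]
  haveI : Surjective (openObj V).hom := ⟨fun s => by
    obtain ⟨y, hy, hyV⟩ := exists_smooth_point U s
    exact ⟨⟨y, hyV⟩, hy⟩⟩
  refine isAlgStack_of_free b aX fun T g x hx => U.action_free g (x ≫ openIncl V) ?_
  conv_rhs => rw [← hx]
  show lift g (x ≫ openIncl V) ≫ U.action.act = (lift g x ≫ b.act) ≫ openIncl V
  rw [Category.assoc, hb, lift_whiskerLeft_assoc]

end Groth.Agent.Stk19b.FlatQuot
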