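import Groth.Agent.Stk19b.Quot.ToSp
import Groth.Agent.Stk19b.QuotTriv
import Groth.Agent.Stk19b.Quot.Atlas
import Groth.Agent.Stk19b.GeomFibre
import Groth.Agent.AlgSpLib.MorProper
import Groth.Prelude.Def_StCoarse
import Mathlib.AlgebraicGeometry.AlgClosed.Basic
import Mathlib.RingTheory.Jacobson.Ring

/-! Coarse moduli spaces of quotient stacks from geometric orbits. -/

set_option autoImplicit false
set_option linter.style.haveILetI false
set_option backward.isDefEq.respectTransparency false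
set_option backward.isDefEq.respectTransparency.types false

universe u

open CategoryTheory CategoryTheory.Limits AlgebraicGeometry MonoidalCategory CartesianMonoidalCategory MonObj GrpObj Opposite
open FibCat Groth.Agent.Stk19 Groth.Agent.Stk19b.QuotTriv

namespace Groth.Agent.Stk19b.FlatQuot

variable {S : Scheme.{u}}

theorem fibSec_eq {𝒳 : AlgSt.Cat S} {M : AlgSp.Sp S} (π : 𝒳 ⥤ᵇ AlgSt.ofSp M) {T : Over S} (x : 𝒳.p.Fiber T)
    (s : M.obj.obj (op T)) (h : π.obj x.1 = (⟨T, s⟩ : (AlgSt.ofSp M).obj)) : AlgSt.fibSec π x = s := by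
  have key : ∀ (A : (AlgSt.ofSp M).obj) (_ : A = (⟨T, s⟩ : (AlgSt.ofSp M).obj)) (w : A.base = T),
      M.obj.map (eqToHom w.symm).op A.sec = s := by
    intro A hA w
    subst hA
    simp
  exact key _ h ((π.w_obj x.1).trans x.2)

theorem fibSec_of_iso {𝒳 : AlgSt.Cat S} {M : AlgSp.Sp S} (π : 𝒳 ⥤ᵇ AlgSt.ofSp M) {T : Over S}
    {x y : 𝒳.p.Fiber T} (e : x ⟶ y) : AlgSt.fibSec π x = AlgSt.fibSec π y := by
  have hb : 𝒳.p.map e.1 = eqToHom (x.2.trans y.2.symm) := by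
    haveI := e.2
    have := IsHomLift.fac' 𝒳.p (𝟙 T) e.1
    simpa using this
  have hm : (π.map e.1).hom = eqToHom ((π.w_obj x.1).trans ((x.2.trans y.2.symm).trans (π.w_obj y.1).symm)) := by
    have h1 := based_map π e.1
    rw [hb] at h1
    simpa using h1
  have hs := (π.map e.1).map_sec
  rw [hm] at hs
  unfold AlgSt.fibSec
  have key : ∀ {a b c : Over S} (p : a = b) (q : b = c) (r : a = c) (z : M.obj.obj (op c)),
      M.obj.map (eqToHom p).op (M.obj.map (eqToHom q).op z) = M.obj.map (eqToHom r).op z := by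
    intro a b c p q r z
    subst p q
    simp
  rw [← hs]
  exact key _ _ _ _

variable {G X : Over S} [GrpObj G]

theorem exists_point_of_surjective {Ω : Type u} [Field Ω] [IsAlgClosed Ω] {P : Scheme.{u}}
    (f : P ⟶ Spec (CommRingCat.of Ω)) [LocallyOfFiniteType f] [Surjective f] :
    ∃ σ : Spec (CommRingCat.of Ω) ⟶ P, σ ≫ f = 𝟙 _ := by
  haveI : JacobsonSpace P := LocallyOfFiniteType.jacobsonSpace f
  obtain ⟨p, -⟩ := f.surjective (IsLocalRing.closedPoint Ω)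
  obtain ⟨c, -, hc⟩ := nonempty_inter_closedPoints (Z := (Set.univ : Set P)) ⟨p, trivial⟩ isOpen_univ.isLocallyClosed
  exact ⟨pointOfClosedPoint f c hc, pointOfClosedPoint_comp f c hc⟩

variable [LocallyOfFinitePresentation G.hom] (aX : AlgGrp.Action G X)

/-- `triv` as an object of the fibre. -/
noncomputable abbrev trivF {T : Over S} (x : T ⟶ X) :
    haveI := Quot.hasIsos_fppf.{u}
    (AlgSt.QuotSt Scheme.fppfPrecoverage G aX).p.Fiber T :=
  haveI := Quot.hasIsos_fppf.{u}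
  Functor.Fiber.mk (p := (AlgSt.QuotSt Scheme.fppfPrecoverage G aX).p) (a := triv Scheme.fppfPrecoverage aX x) rfl

/-- Torsors over an algebraically closed field are trivial. -/
theorem exists_triv_iso {Ω : Type u} [Field Ω] [IsAlgClosed Ω] (t : Spec (CommRingCat.of Ω) ⟶ S)
    (A : (AlgSt.QuotSt Scheme.fppfPrecoverage G aX).p.Fiber (Over.mk t)) :
    haveI := Quot.hasIsos_fppf.{u}
    ∃ x : Over.mk t ⟶ X, Nonempty
      ((trivF aX x) ≅ A) := by
  haveI := Quot.hasIsos_fppf.{u}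
  have hA' : A.1.base = Over.mk t := A.2
  have hK : Scheme.fppfPrecoverage.{u} ≤ Scheme.fpqcPrecoverage := Scheme.fppfPrecoverage_le_fpqcPrecoverage
  haveI : Surjective A.1.π.left := Quot.π_prop hK @Surjective inferInstance Quot.surjective_hom A.1
  haveI : LocallyOfFinitePresentation A.1.π.left :=
    Quot.π_prop hK @LocallyOfFinitePresentation inferInstance inferInstance A.1
  haveI : IsIso (eqToHom hA').left := inferInstanceAs (IsIso ((Over.forget S).map (eqToHom hA')))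
  obtain ⟨σ, hσ⟩ := exists_point_of_surjective (Ω := Ω) (A.1.π.left ≫ (eqToHom hA').left)
  have hw : σ ≫ A.1.P.hom = t := by
    have h1 : (A.1.π.left ≫ (eqToHom hA').left) ≫ t = A.1.P.hom := by
      rw [Category.assoc]
      exact (congrArg (A.1.π.left ≫ ·) (Over.w (eqToHom hA'))).trans (Over.w A.1.π)
    rw [← h1, ← Category.assoc, hσ]; exact Category.id_comp _
  let p : Over.mk t ⟶ A.1.P := Over.homMk σ hw
  have hp : p ≫ A.1.π = eqToHom hA'.symm := by
    rw [← cancel_mono (eqToHom hA'), eqToHom_trans, eqToHom_refl, Category.assoc]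
    exact Over.OverMorphism.ext hσ
  exact ⟨p ≫ A.1.φ, GeomFibre.exists_iso_mkFib A p hp⟩

theorem isCoarseModuli_quotSt {Y : Over S} (f : X ⟶ Y)
    (horb : ∀ (Ω : Type u) [Field Ω] [IsAlgClosed Ω] (t : Spec (CommRingCat.of Ω) ⟶ S),
      (∀ y : Over.mk t ⟶ Y, ∃ x : Over.mk t ⟶ X, x ≫ f = y) ∧
      (∀ x x' : Over.mk t ⟶ X, x ≫ f = x' ≫ f → ∃ g : Over.mk t ⟶ G, lift g x' ≫ aX.act = x))
    (hcat : ∀ (N : AlgSp.Space S) (ψ : (AlgSp.yon S).obj X ⟶ N.obj),
      (AlgSp.yon S).map aX.act ≫ ψ = (AlgSp.yon S).map (snd G X) ≫ ψ →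
        ∃! χ : (AlgSp.yon S).obj Y ⟶ N.obj, (AlgSp.yon S).map f ≫ χ = ψ)
    (π : AlgSt.QuotSt Scheme.fppfPrecoverage G aX ⥤ᵇ AlgSt.ofSch Y)
    (hπ : Nonempty (BasedFunctor.comp (AlgSt.quotMap Scheme.fppfPrecoverage G aX) π ≅
      AlgSt.ofSpMap ((AlgSp.yon S).map f))) :
    AlgSt.IsCoarseModuli π := by
  haveI := Quot.hasIsos_fppf.{u}
  obtain ⟨i⟩ := hπ
  have hπ' := Quot.eq_of_iso i
  refine ⟨⟨AlgSp.IsAlgSpace.yon_obj Y, fun N hN φ => ?_⟩, fun Ω _ _ t => ?_⟩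
  · have key : ∀ g : (AlgSp.yon S).obj Y ⟶ N,
        BasedFunctor.comp (AlgSt.quotMap Scheme.fppfPrecoverage G aX) (BasedFunctor.comp π (AlgSt.ofSpMap g)) =
          AlgSt.ofSpMap ((AlgSp.yon S).map f ≫ g) := fun g => by
      rw [← ofSpMap_comp]
      exact congrArg (fun θ : AlgSt.ofSch X ⥤ᵇ AlgSt.ofSch Y => BasedFunctor.comp θ (AlgSt.ofSpMap g)) hπ'
    obtain ⟨f', hf', hφ⟩ := Quot.exists_inv φ
    obtain ⟨χ, hχ, hu⟩ := hcat ⟨N, hN⟩ f' hf'
    refine ⟨χ, ⟨eqToIso (Quot.eq_of_comp ?_)⟩, fun g ⟨j⟩ => hu g ?_⟩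
    · rw [key, hφ]
      exact congrArg AlgSt.ofSpMap hχ
    · have e' := key g
      rw [Quot.eq_of_iso j, hφ] at e'
      exact (ofSpMap_inj (eqToIso e').hom).symm
  · have hsec : ∀ x : Over.mk t ⟶ X,
        AlgSt.fibSec π (trivF aX x) = ULift.up (x ≫ f) := fun x => by
      refine fibSec_eq π _ _ ?_
      exact (congrArg (fun θ : AlgSt.ofSch X ⥤ᵇ AlgSt.ofSch Y => θ.obj ((AlgSt.ofOverCat X).obj (Over.mk x))) hπ').trans rfl
    refine ⟨fun m => ?_, fun A B hAB => ?_⟩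
    · obtain ⟨x, hx⟩ := (horb Ω t).1 m.down
      exact ⟨_, (hsec x).trans (congrArg ULift.up hx)⟩
    · obtain ⟨x, ⟨i₁⟩⟩ := exists_triv_iso aX t A
      obtain ⟨x', ⟨i₂⟩⟩ := exists_triv_iso aX t B
      rw [← fibSec_of_iso π i₁.hom, ← fibSec_of_iso π i₂.hom, hsec, hsec] at hAB
      obtain ⟨g, hg⟩ := (horb Ω t).2 x x' (congrArg ULift.down hAB)
      obtain ⟨i₃⟩ := (GeomFibre.isIsomorphic_mkFib_iff (K := Scheme.fppfPrecoverage) (aX := aX) x x').2 ⟨g, hg⟩
      exact ⟨i₁.symm ≪≫ i₃ ≪≫ i₂⟩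

end Groth.Agent.Stk19b.FlatQuot
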