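import Groth.Agent.Stk19b.FlatQuot.Main
import Groth.Agent.Stk19b.Gerbe.Flat

/-! If `BG` is algebraic then `G` is flat and locally of finite presentation. -/

set_option autoImplicit false
set_option linter.style.haveILetI false
set_option backward.isDefEq.respectTransparency false
set_option backward.isDefEq.respectTransparency.types false

universe u

open CategoryTheory CategoryTheory.Limits AlgebraicGeometry MonoidalCategory CartesianMonoidalCategory MonObj GrpObj
open FibCat Groth.Agent.Stk19 Groth.Agent.Stk19b.QuotTriv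

namespace Groth.Agent.Stk19b.FlatQuot

variable {S : Scheme.{u}}

theorem schemeTested_surjective : SchemeTested (AlgSp.IsSurjectiveMor (S := S)) := fun V Z a h z => by
  obtain ⟨W, p, -, hps⟩ := Z.property.atlas
  obtain ⟨w, rfl⟩ := AlgSpLib.surjective_map_of_repWith hps z
  obtain ⟨v, hv⟩ := h p w
  refine ⟨AlgSp.Points.map (pullback.fst a p) v, ?_⟩
  rw [← hv, ← AlgSp.Points.map_comp, pullback.condition, AlgSp.Points.map_comp]

theorem surjective_of_with_overMap {W U : Over S} {p : W ⟶ U}
    (h : AlgSt.RepByAlgSpWith AlgSp.IsSurjectiveMor (AlgSt.overMap p)) : Surjective p.left :=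
  (AlgSpLib.surjective_map_yon_map_iff p).1 (prop_of_repByAlgSpWith_ofSpMap pbStable_surjective schemeTested_surjective
    (V := ⟨_, AlgSp.IsAlgSpace.yon_obj W⟩) (Z := ⟨_, AlgSp.IsAlgSpace.yon_obj U⟩) _
    ((repByAlgSpWith_iff_of_square (f' := AlgSt.overMap p) (f := AlgSt.ofSpMap ((AlgSp.yon S).map p))
      (a := AlgSt.ofOverCat W) (b := AlgSt.ofOverCat U) (isEquivOver_ofOverCat W) (isEquivOver_ofOverCat U)
      (eqToIso (ofOver_overMap p))).1 h))

variable {G : Over S} [GrpObj G]

/-- A torsor with smooth surjective total space forces the group to be flat and locally finitely presented. -/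
theorem flat_lfp_of_torsor {X : Over S} {aX : AlgGrp.Action G X} (A : AlgSt.QuotObj Scheme.fppfPrecoverage G aX)
    (hsm : Smooth A.P.hom) (hsur : Surjective A.P.hom) : Flat G.hom ∧ LocallyOfFinitePresentation G.hom := by
  haveI := hsm
  haveI := hsur
  obtain ⟨R, hR, hsec⟩ := A.loc
  obtain ⟨I, Y, g, rfl⟩ := R.exists_eq_ofArrows
  have hR' : Presieve.ofArrows Y g ∈ (Scheme.precoverage (@Flat ⊓ @LocallyOfFinitePresentation)).coverings A.base.left := hR
  let 𝒰₀ : Scheme.Cover (Scheme.precoverage (@Flat ⊓ @LocallyOfFinitePresentation)) A.base.left :=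
    { toPreZeroHypercover := PreZeroHypercover.mk I Y g, mem₀ := hR' }
  let 𝒰 := Precoverage.ZeroHypercover.restrictIndexOfSmall.{u} 𝒰₀
  choose v hv using fun i => hsec _ ⟨Precoverage.ZeroHypercover.Small.restrictFun 𝒰₀ i⟩
  let t : (∐ 𝒰.X) ⟶ A.base.left := Limits.Sigma.desc 𝒰.f
  haveI : Flat t := IsZariskiLocalAtSource.sigmaDesc (P := @Flat) fun i => (Scheme.Cover.map_prop 𝒰 i).1
  haveI : LocallyOfFinitePresentation t :=
    IsZariskiLocalAtSource.sigmaDesc (P := @LocallyOfFinitePresentation) fun i => (Scheme.Cover.map_prop 𝒰 i).2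
  haveI : Surjective t := ⟨fun x => by
    obtain ⟨i, y, rfl⟩ := Scheme.Cover.exists_eq 𝒰 x
    exact ⟨Sigma.ι 𝒰.X i y, by rw [← Scheme.Hom.comp_apply, Sigma.ι_desc]⟩⟩
  let q : (∐ 𝒰.X) ⟶ A.P.left := Limits.Sigma.desc v
  have hq : q ≫ A.π.left = t := Limits.Sigma.hom_ext _ _ fun i => by
    simp only [q, t, Sigma.ι_desc_assoc, Sigma.ι_desc]
    exact hv i
  have hπ : A.π.left ≫ A.base.hom = A.P.hom := Over.w A.π
  haveI : Flat (A.π.left ≫ A.base.hom) := hπ ▸ inferInstance
  haveI : LocallyOfFinitePresentation (A.π.left ≫ A.base.hom) := hπ ▸ inferInstance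
  obtain ⟨hbf, hbl⟩ := Gerbe.flat_lfp_of_cover_section t q A.π.left A.base.hom hq
  haveI : Surjective A.base.hom :=
    haveI : Surjective (A.π.left ≫ A.base.hom) := hπ ▸ inferInstance
    Surjective.of_comp A.π.left A.base.hom
  let T : Over S := Over.mk (t ≫ A.base.hom)
  let t' : T ⟶ A.base := Over.homMk t rfl
  let v' : T ⟶ A.P := Over.homMk q (by rw [← hπ, reassoc_of% hq]; rfl)
  have hv' : v' ≫ A.π = t' := Over.OverMorphism.ext hq
  have sq := (AlgSt.isPullback_whiskerLeft (G := G) v').paste_horiz A.cart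
  rw [hv'] at sq
  have sq' := sq.map (Over.forget S)
  haveI : Flat ((G ◁ v') ≫ A.act.act).left :=
    MorphismProperty.of_isPullback (P := @Flat) sq'.flip ‹Flat t›
  haveI : LocallyOfFinitePresentation ((G ◁ v') ≫ A.act.act).left :=
    MorphismProperty.of_isPullback (P := @LocallyOfFinitePresentation) sq'.flip ‹LocallyOfFinitePresentation t›
  have hk : ((G ◁ v') ≫ A.act.act).left ≫ A.P.hom = (G ⊗ T).hom := Over.w _
  have hGT : (fst G T).left ≫ G.hom = (G ⊗ T).hom := Over.w (fst G T)
  have hsq : IsPullback (fst G T).left (snd G T).left G.hom T.hom := IsPullback.of_hasPullback G.hom T.hom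
  haveI : Flat T.hom := MorphismProperty.comp_mem _ _ _ ‹Flat t› hbf
  haveI : LocallyOfFinitePresentation T.hom := MorphismProperty.comp_mem _ _ _ ‹LocallyOfFinitePresentation t› hbl
  haveI : Surjective T.hom := MorphismProperty.comp_mem (@Surjective) _ _ ‹Surjective t› inferInstance
  haveI : Flat (fst G T).left := MorphismProperty.of_isPullback (P := @Flat) hsq.flip inferInstance
  haveI : LocallyOfFinitePresentation (fst G T).left :=
    MorphismProperty.of_isPullback (P := @LocallyOfFinitePresentation) hsq.flip inferInstance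
  haveI : Surjective (fst G T).left := MorphismProperty.of_isPullback (P := @Surjective) hsq.flip inferInstance
  have h1 : Flat ((fst G T).left ≫ G.hom) := by rw [hGT, ← hk]; infer_instance
  have h2 : LocallyOfFinitePresentation ((fst G T).left ≫ G.hom) := by rw [hGT, ← hk]; infer_instance
  exact ⟨FlatLocal.flat_of_comp (fst G T).left G.hom, AlgSpLib.lfp_of_comp_fppf (fst G T).left G.hom h2⟩

/-- If the classifying stack is algebraic, the group is flat and locally of finite presentation. -/
theorem flat_lfp_of_isAlgStack_BG (h : AlgSt.IsAlgStack Scheme.fppfPrecoverage (AlgSt.BG Scheme.fppfPrecoverage G)) :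
    Flat G.hom ∧ LocallyOfFinitePresentation G.hom := by
  haveI := Quot.hasIsos_fppf.{u}
  haveI := stable_fppf.{u}
  obtain ⟨U, x, hxsm, hxsur⟩ := h.atlas
  obtain ⟨c, E, hE, -, -, -⟩ := Quot.exists_fibre x
  let A := x.obj (Over.mk (𝟙 U))
  let at₀ := Quot.atlas G Scheme.fppfPrecoverage (AlgSt.trivAction G)
  obtain ⟨k, ⟨ik⟩⟩ := Stk19.exists_overMap_iso (BasedFunctor.comp E (fpSnd x at₀))
  have hsm : Smooth k.left := Gerbe.prop_of_with_overMap AlgSpLib.etLocal_smooth
    (repByAlgSpWith_of_iso ik (with_equiv_comp hE (repByAlgSpWith_fpSnd at₀ hxsm)))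
  have hsur : Surjective k.left :=
    surjective_of_with_overMap (repByAlgSpWith_of_iso ik (with_equiv_comp hE (repByAlgSpWith_fpSnd at₀ hxsur)))
  have hk : k.left = A.P.hom := (Category.comp_id _).symm.trans (Over.w k)
  exact flat_lfp_of_torsor A (hk ▸ hsm) (hk ▸ hsur)

end Groth.Agent.Stk19b.FlatQuot
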