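import Groth.Agent.Stk19b.FlatQuot.Converse
import Groth.Agent.S0115

/-! Quotient stacks of smooth schemes by flat, locally finitely presented affine groups are smooth. -/

set_option autoImplicit false
set_option linter.style.haveILetI false
set_option backward.isDefEq.respectTransparency false
set_option backward.isDefEq.respectTransparency.types false

universe u

open CategoryTheory CategoryTheory.Limits AlgebraicGeometry MonoidalCategory CartesianMonoidalCategory MonObj GrpObj
open FibCat Groth.Agent.Stk19

namespace Groth.Agent.Stk19b.FlatQuot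

variable {S : Scheme.{u}}

theorem locQ_smooth_quotSt (G : Over S) [GrpObj G] [Flat G.hom] [LocallyOfFinitePresentation G.hom]
    [IsAffineHom G.hom] (X : Over S) [Smooth X.hom] (aX : AlgGrp.Action G X) :
    AlgSt.LocQ (AlgSp.LocP @Smooth) (FibCat.toSelf (AlgSt.QuotSt Scheme.fppfPrecoverage G aX)) := by
  haveI := Quot.hasIsos_fppf.{u}
  haveI := stable_fppf.{u}
  have h := isAlgStack_quotSt G X aX
  obtain ⟨U, x, hxsm, hxsur⟩ := h.atlas
  obtain ⟨c, E, hE, -, eA, hc⟩ := Quot.exists_fibre x
  let A := x.obj (Over.mk (𝟙 U))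
  have hK : Scheme.fppfPrecoverage.{u} ≤ Scheme.fpqcPrecoverage := Scheme.fppfPrecoverage_le_fpqcPrecoverage
  let at₀ := Quot.atlas G Scheme.fppfPrecoverage aX
  obtain ⟨k, ⟨ik⟩⟩ := Stk19.exists_overMap_iso (BasedFunctor.comp E (fpSnd x at₀))
  haveI : Smooth k.left := Gerbe.prop_of_with_overMap AlgSpLib.etLocal_smooth
    (repByAlgSpWith_of_iso ik (with_equiv_comp hE (repByAlgSpWith_fpSnd at₀ hxsm)))
  haveI : Smooth A.P.hom := by rw [← Over.w k]; infer_instance
  haveI : IsIso (eqToHom eA).left := inferInstanceAs (IsIso ((Over.forget S).map (eqToHom eA)))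
  haveI : Flat A.π.left := Quot.π_prop hK @Flat AlgSpLib.descends_flat inferInstance A
  haveI : LocallyOfFinitePresentation A.π.left :=
    Quot.π_prop hK @LocallyOfFinitePresentation inferInstance inferInstance A
  haveI : Surjective A.π.left := Quot.π_prop hK @Surjective inferInstance Quot.surjective_hom A
  have hcl : c.left = A.π.left ≫ (eqToHom eA).left := by rw [hc, Over.comp_left]
  haveI : Flat c.left := hcl ▸ inferInstance
  haveI : LocallyOfFinitePresentation c.left := hcl ▸ inferInstance
  haveI : Surjective c.left := hcl ▸ inferInstance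
  haveI : Smooth (c.left ≫ U.hom) := by rw [Over.w c]; infer_instance
  have hU : Smooth U.hom := Groth.Agent.S0115.result c.left U.hom
  let V : Over S := Over.mk (𝟙 S)
  let hh : U ⟶ V := Over.homMk U.hom (Category.comp_id _)
  refine ⟨U, V, x, toSelf (overCat V), hh, eqToIso (based_ext x.w), hxsm, hxsur,
    repByAlgSpWith_of_isEquivOver isEquivOver_toSelf_terminal
      fun W => AlgSpLib.locP_id AlgSpLib.etLocal_smooth (AlgSp.IsAlgSpace.yon_obj W),
    (locP_yon_iff AlgSpLib.etLocal_smooth hh).2 hU⟩

end Groth.Agent.Stk19b.FlatQuot
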