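import Groth.Agent.Stk19b.FlatQuot.Rep
import Groth.Agent.Stk19.AlgSt.Local
import Groth.Agent.Stk19b.Boot.Cover

/-! A smooth surjective free `G`-scheme gives a smooth atlas of every `[X/G]`. -/

set_option autoImplicit false
set_option linter.style.haveILetI false
set_option backward.isDefEq.respectTransparency false
set_option backward.isDefEq.respectTransparency.types false

universe u

open CategoryTheory CategoryTheory.Limits AlgebraicGeometry MonoidalCategory CartesianMonoidalCategory MonObj GrpObj
open Opposite FibCat Groth.Agent.Stk19 Groth.Agent.Stk19b.QuotTriv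

namespace Groth.Agent.Stk19b.FlatQuot

variable {S : Scheme.{u}}

theorem schDescent_surjective : SchDescent (AlgSp.IsSurjectiveMor (S := S)) := fun V T W a c _ _ hc h t => by
  obtain ⟨w, rfl⟩ := (surjective_yon (c := c) hc.surj : AlgSp.IsSurjectiveMor _) t
  obtain ⟨z, rfl⟩ := h w
  exact ⟨AlgSp.Points.map (pullback.fst a ((AlgSp.yon S).map c)) z, by
    rw [← AlgSp.Points.map_comp, pullback.condition, AlgSp.Points.map_comp]⟩

variable {G X : Over S} [GrpObj G] {K : Precoverage Scheme.{u}}

/-- The diagonal action on a product. -/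
noncomputable def prodAct {F : Over S} (aF : AlgGrp.Action G F) (aX : AlgGrp.Action G X) :
    AlgGrp.Action G (F ⊗ X) where
  act := lift ((G ◁ fst F X) ≫ aF.act) ((G ◁ snd F X) ≫ aX.act)
  one_act := by
    apply CartesianMonoidalCategory.hom_ext
    · rw [Category.assoc, lift_fst, ← MonoidalCategory.whisker_exchange_assoc, aF.one_act,
        MonoidalCategory.leftUnitor_naturality]
    · rw [Category.assoc, lift_snd, ← MonoidalCategory.whisker_exchange_assoc, aX.one_act,
        MonoidalCategory.leftUnitor_naturality]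
  mul_act := by
    apply CartesianMonoidalCategory.hom_ext
    · simp only [Category.assoc, lift_fst]
      rw [← MonoidalCategory.whisker_exchange_assoc, aF.mul_act, ← MonoidalCategory.whiskerLeft_comp_assoc,
        lift_fst, MonoidalCategory.whiskerLeft_comp_assoc]
      simp
    · simp only [Category.assoc, lift_snd]
      rw [← MonoidalCategory.whisker_exchange_assoc, aX.mul_act, ← MonoidalCategory.whiskerLeft_comp_assoc,
        lift_snd, MonoidalCategory.whiskerLeft_comp_assoc]
      simp

variable {F : Over S} (aF : AlgGrp.Action G F) (aX : AlgGrp.Action G X)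

theorem prodAct_smul_fst {T : Over S} (g : T ⟶ G) (x : T ⟶ F ⊗ X) :
    smulPt (prodAct aF aX) g x ≫ fst F X = smulPt aF g (x ≫ fst F X) := by
  show (lift g x ≫ lift _ _) ≫ _ = _
  rw [Category.assoc, lift_fst, lift_whiskerLeft_assoc]

variable (K) in
/-- The projection of quotient categories. -/
noncomputable def proj : AlgSt.QuotSt K G (prodAct aF aX) ⥤ᵇ AlgSt.QuotSt K G aX where
  toFunctor :=
    { obj := fun A =>
        { base := A.base
          P := A.P
          act := A.act
          π := A.π
          cart := A.cart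
          loc := A.loc
          φ := A.φ ≫ snd F X
          eqv := by
            rw [← Category.assoc, A.eqv]
            show ((G ◁ A.φ) ≫ lift _ _) ≫ snd F X = _
            rw [Category.assoc, lift_snd, MonoidalCategory.whiskerLeft_comp_assoc] }
      map := fun {A B} f =>
        { base := f.base
          top := f.top
          eqv := f.eqv
          cart := f.cart
          wφ := by
            show f.top ≫ B.φ ≫ snd F X = A.φ ≫ snd F X
            rw [← Category.assoc, f.wφ] }
      map_id := fun A => AlgSt.QuotObj.hom_ext rfl rfl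
      map_comp := fun f g => AlgSt.QuotObj.hom_ext rfl rfl }
  w := rfl

theorem proj_faithful : (proj K aF aX).toFunctor.Faithful where
  map_injective {A B} f g e :=
    AlgSt.QuotObj.hom_ext
      ((congrArg AlgSt.QuotObj.Hom.base e :) : ((proj K aF aX).map f).base = ((proj K aF aX).map g).base)
      ((congrArg AlgSt.QuotObj.Hom.top e :) : ((proj K aF aX).map f).top = ((proj K aF aX).map g).top)

variable [K.HasIsos] [K.IsStableUnderBaseChange]

/-- The fibre product of the projection with the atlas. -/
theorem exists_square :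
    ∃ E : overCat (F ⊗ X) ⥤ᵇ fp (Quot.atlas G K aX) (proj K aF aX),
      IsEquivOver E ∧
        BasedFunctor.comp E (fpFst (Quot.atlas G K aX) (proj K aF aX)) = AlgSt.overMap (snd F X) := by
  let H := F ⊗ X
  let g := Quot.atlas G K aX
  let q := proj K aF aX
  let gH := Quot.atlas G K (prodAct aF aX)
  let xob : (overCat H).obj → (overCat X).obj := fun a => Over.mk (a.hom ≫ snd F X)
  have hφ : ∀ a : (overCat H).obj, (gH.obj a).φ ≫ snd F X = (g.obj (xob a)).φ := fun a => by
    show ((G ◁ a.hom) ≫ lift _ _) ≫ snd F X = (G ◁ (a.hom ≫ snd F X)) ≫ aX.act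
    rw [Category.assoc, lift_snd, MonoidalCategory.whiskerLeft_comp_assoc]
  let θh : ∀ a, g.obj (xob a) ⟶ q.obj (gH.obj a) := fun a =>
    { base := 𝟙 _
      top := 𝟙 _
      eqv := by
        rw [MonoidalCategory.whiskerLeft_id]
        exact (Category.comp_id _).trans (Category.id_comp _).symm
      cart := IsPullback.of_horiz_isIso ⟨(Category.id_comp _).trans (Category.comp_id _).symm⟩
      wφ := (Category.id_comp _).trans (hφ a) }
  haveI : ∀ a, IsIso (θh a) := fun a =>
    haveI : IsIso (θh a).base := IsIso.id _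
    isIso_of_base _
  have hv : ∀ a, (AlgSt.QuotSt K G aX).p.IsHomLift (𝟙 ((overCat X).p.obj (xob a))) (θh a) := fun a =>
    vert_change _ _ (vert_of_map_eq _ (h := rfl) (show (θh a).base = eqToHom rfl from rfl)) rfl
  have hnat : ∀ {a b : (overCat H).obj} (φ : a ⟶ b),
      g.map (Over.homMk φ.left (by simp [xob, reassoc_of% (Over.w φ)]) : xob a ⟶ xob b) ≫ (asIso (θh b)).hom =
        (asIso (θh a)).hom ≫ q.map (gH.map φ) := fun {a b} φ =>
    AlgSt.QuotObj.hom_ext ((Category.comp_id _).trans (Category.id_comp _).symm)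
      ((Category.comp_id _).trans (Category.id_comp _).symm)
  let E : overCat H ⥤ᵇ fp g q :=
    { toFunctor :=
        { obj := fun a => fpMk (xob a) (gH.obj a) (asIso (θh a)) (hv a)
          map := fun {a b} φ => fpHom (Over.homMk φ.left (by simp [xob, fpMk, reassoc_of% (Over.w φ)]))
            (gH.map φ) (hnat φ)
          map_id := fun a => fp_hom_ext (Over.OverMorphism.ext rfl) (gH.toFunctor.map_id a)
          map_comp := fun φ ψ => fp_hom_ext (Over.OverMorphism.ext rfl) (gH.toFunctor.map_comp φ ψ) }
      w := rfl }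
  refine ⟨E, EqvData.isEquivOver ⟨⟨fun {a b} t => ?_⟩, ⟨fun {a b} φ ψ e => ?_⟩, fun z => ?_⟩,
    based_ext (CategoryTheory.Functor.ext (fun _ => rfl) fun _ _ φ => by
      simp
      exact Over.OverMorphism.ext rfl)⟩
  · let f : a.left ⟶ b.left := t.hom.fst.left
    let s : gH.obj a ⟶ gH.obj b := t.hom.snd
    have hs : s.base = f := (fp_map_snd t).trans ((Category.id_comp _).trans (Category.comp_id _))
    have hw := congrArg AlgSt.QuotObj.Hom.top t.hom.w
    have hst : s.top = G ◁ f := by
      have h' : (G ◁ f) ≫ 𝟙 _ = 𝟙 _ ≫ s.top := hw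
      rw [Category.comp_id, Category.id_comp] at h'
      exact h'.symm
    have hab : f ≫ b.hom = a.hom := by
      have h1 : unitSec a.left ≫ s.top ≫ (gH.obj b).φ = unitSec a.left ≫ (gH.obj a).φ :=
        congrArg (unitSec a.left ≫ ·) s.wφ
      have h2 : ∀ c : (overCat H).obj, unitSec c.left ≫ (gH.obj c).φ = c.hom := fun c => unitSec_φ c.hom
      rw [h2, hst, ← Category.assoc, Quot.unitSec_whisker] at h1
      exact (congrArg (f ≫ ·) (h2 b)).symm.trans ((Category.assoc _ _ _).symm.trans h1)
    exact ⟨Over.homMk f hab, fp_hom_ext (Over.OverMorphism.ext rfl)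
      (AlgSt.QuotObj.hom_ext hs.symm hst.symm)⟩
  · exact Over.OverMorphism.ext (congrArg (fun t => t.hom.fst.left) e)
  · let x := z.obj.fst
    let A := z.obj.snd
    let k : g.obj x ⟶ q.obj A := z.obj.iso.hom
    let t : x.left ⟶ A.P := unitSec x.left ≫ k.top
    let a : (overCat H).obj := Over.mk (t ≫ A.φ)
    have ha : (t ≫ A.φ) ≫ snd F X = x.hom := by
      have h1 : k.top ≫ A.φ ≫ snd F X = (g.obj x).φ := k.wφ
      have h2 : unitSec x.left ≫ (g.obj x).φ = x.hom := unitSec_φ x.hom
      rw [Category.assoc, Category.assoc, h1, h2]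
    have htπ : t ≫ A.π = k.base := (Category.assoc _ _ _).trans (unitSec_top_π k)
    obtain ⟨h, hhb, hht⟩ := exists_hom_of_point (K := K) A t k.base htπ (t ≫ A.φ) rfl
    have hk : k.top = h.top := (top_eq k).trans hht.symm
    haveI : IsIso h := by
      haveI : IsIso h.base := by
        rw [hhb, show k.base = eqToHom _ from fp_iso_map z]
        infer_instance
      exact isIso_of_base h
    let i₁ : xob a ≅ x := Over.isoMk (Iso.refl _) ((Category.id_comp _).trans ha.symm)
    let h' : gH.obj a ⟶ A := h
    haveI : IsIso h' := ‹IsIso h›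
    refine ⟨a, fpIsoMk i₁ (asIso h') ?_, fpIsoMk_vert _ _ _ ?_⟩
    · refine AlgSt.QuotObj.hom_ext ?_ ?_
      · show 𝟙 x.left ≫ k.base = 𝟙 _ ≫ h.base
        rw [hhb]
        rfl
      · show (G ◁ 𝟙 x.left) ≫ k.top = 𝟙 _ ≫ h.top
        rw [MonoidalCategory.whiskerLeft_id, hk]
        rfl
    · exact vert_of_map_eq (overCat X).p (h := rfl) (show i₁.hom.left = eqToHom rfl from rfl)

omit [K.HasIsos] [K.IsStableUnderBaseChange] in
/-- A smooth surjective `G`-scheme with free action makes every quotient of `G` algebraic. -/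
theorem isAlgStack_of_free [Flat G.hom] [LocallyOfFinitePresentation G.hom] [IsAffineHom G.hom]
    [Smooth F.hom] [Surjective F.hom]
    (hfree : ∀ (T : Over S) (g : T ⟶ G) (x : T ⟶ F), smulPt aF g x = x → g = 1) :
    AlgSt.IsAlgStack Scheme.fppfPrecoverage (AlgSt.QuotSt Scheme.fppfPrecoverage G aX) := by
  haveI := Quot.hasIsos_fppf.{u}
  haveI := stable_fppf.{u}
  have hrepH : AlgSt.RepByAlgSp (AlgSt.QuotSt Scheme.fppfPrecoverage G (prodAct aF aX)) :=
    repByAlgSp_of_free _ fun T g x hx => hfree T g (x ≫ fst F X) (by rw [← prodAct_smul_fst, hx])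
  have hH : AlgSt.IsAlgStack Scheme.fppfPrecoverage (AlgSt.QuotSt Scheme.fppfPrecoverage G (prodAct aF aX)) :=
    (isDM_of_repByAlgSp hrepH).1
  haveI := proj_faithful (K := Scheme.fppfPrecoverage) aF aX
  have h𝒳 := Quot.isStack_fppf aX
  have hq : AlgSt.RepByAlgSp1 (proj Scheme.fppfPrecoverage aF aX) := fun U y =>
    repByAlgSp_of_setoid (isAlgStack_fp h𝒳 (repByAlgSp1_diag aX) (isAlgStack_overCat U) hH y _)
      (setoid_fp _ _ (setoid_of_repByAlgSp (repByAlgSp_overCat U)) hH.isStack.1 h𝒳.1)
  have hK : Scheme.fppfPrecoverage.{u} ≤ Scheme.fpqcPrecoverage := Scheme.fppfPrecoverage_le_fpqcPrecoverage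
  obtain ⟨E, hE, hEq⟩ := exists_square (K := Scheme.fppfPrecoverage) aF aX
  have key : ∀ (P : MorphismProperty (AlgSp.Sp S)), RespSrc P → SchDescent P →
      AlgSt.RepByAlgSpWith P (AlgSt.overMap (snd F X)) →
      AlgSt.RepByAlgSpWith P (proj Scheme.fppfPrecoverage aF aX) := fun P hR hD h =>
    with_of_cover hR hD hq (Quot.rep_flat hK) (Quot.rep_lfp hK) (Quot.rep_surjective hK)
      ((repByAlgSpWith_iff_of_square (f' := AlgSt.overMap (snd F X)) (a := E) hE (isEquivOver_id _)
        (eqToIso (by rw [hEq]; rfl))).1 h)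
  have sq := Quot.isPullback_left_snd (G := F) X
  haveI : Smooth (snd F X).left := MorphismProperty.of_isPullback sq inferInstance
  haveI : Surjective (snd F X).left := MorphismProperty.of_isPullback sq inferInstance
  have hsur : AlgSt.RepByAlgSpWith AlgSp.IsSurjectiveMor (AlgSt.overMap (snd F X)) :=
    (repByAlgSpWith_iff_of_square (f' := AlgSt.overMap (snd F X))
      (f := AlgSt.ofSpMap ((AlgSp.yon S).map (snd F X))) (a := AlgSt.ofOverCat (F ⊗ X)) (b := AlgSt.ofOverCat X)
      (isEquivOver_ofOverCat _) (isEquivOver_ofOverCat X) (eqToIso (ofOver_overMap _))).2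
      (repByAlgSpWith_ofSpMap pbStable_surjective (V := ⟨_, AlgSp.IsAlgSpace.yon_obj _⟩)
        (Z := ⟨_, AlgSp.IsAlgSpace.yon_obj X⟩) _ (surjective_yon ‹Surjective (snd F X).left›.surj))
  exact Groth.Agent.Stk19b.isAlgStack_of_smooth_cover h𝒳 hrepH (proj _ aF aX)
    (key _ (respSrc_locP AlgSpLib.etLocal_smooth) (schDescent_locP AlgSpLib.etLocal_smooth)
      (with_overMap AlgSpLib.etLocal_smooth _ inferInstance))
    (key _ respSrc_surjective schDescent_surjective hsur)

end Groth.Agent.Stk19b.FlatQuot
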