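import Groth.Agent.Stk19b.FlatQuot.Table
import Groth.Agent.FlatMorSlice.Regular
import Mathlib.RingTheory.Flat.Localization
import Mathlib.RingTheory.FinitePresentation
import Mathlib.RingTheory.TensorProduct.Quotient
import Mathlib.RingTheory.LocalRing.Module
import Mathlib.LinearAlgebra.Matrix.Charpoly.LinearMap
import Mathlib.RingTheory.Finiteness.ModuleFinitePresentation

/-! Lifting finite free quotients of a flat algebra cut out by fibrewise regular sequences. -/

set_option autoImplicit false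
set_option linter.style.haveILetI false
set_option linter.unusedSectionVars false
set_option backward.isDefEq.respectTransparency false

universe u

open TensorProduct

namespace Groth.Agent.Stk19b.FlatQuot

/-- A table over `B` with a map from the base change of `A`. -/
structure Fam (d : ℕ) (R A B : Type u) [CommRing R] [CommRing A] [CommRing B] [Algebra R A] [Algebra R B] where
  T : Tab d B
  ζ : B ⊗[R] A →ₐ[B] T.Alg

namespace Fam

variable {d : ℕ} {R A B B' : Type u} [CommRing R] [CommRing A] [CommRing B] [CommRing B'] [Algebra R A]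
  [Algebra R B] [Algebra R B']

/-- `P'` is the base change of `P`. -/
def IsBC (θ : B →ₐ[R] B') (P : Fam d R A B) (P' : Fam d R A B') : Prop :=
  P.T.map θ.toRingHom = P'.T ∧
    ∀ a i, (P'.ζ (1 ⊗ₜ a) : Fin d → B') i = θ ((P.ζ (1 ⊗ₜ a) : Fin d → B) i)

/-- The base change of tensor products. -/
noncomputable abbrev red (θ : B →ₐ[R] B') : B ⊗[R] A →ₐ[R] B' ⊗[R] A :=
  Algebra.TensorProduct.map θ (AlgHom.id R A)

theorem IsBC.apply {θ : B →ₐ[R] B'} {P : Fam d R A B} {P' : Fam d R A B'} (h : IsBC θ P P') (x : B ⊗[R] A)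
    (i : Fin d) : (P'.ζ (red θ x) : Fin d → B') i = θ ((P.ζ x : Fin d → B) i) := by
  induction x with
  | zero => rw [map_zero, map_zero, map_zero]; exact (map_zero θ).symm
  | tmul b a =>
    rw [Algebra.TensorProduct.map_tmul, show b ⊗ₜ[R] a = b • ((1 : B) ⊗ₜ[R] a) by rw [TensorProduct.smul_tmul']; simp,
      show θ b ⊗ₜ[R] (AlgHom.id R A) a = θ b • ((1 : B') ⊗ₜ[R] a) by rw [TensorProduct.smul_tmul']; simp,
      map_smul, map_smul]
    show θ b * _ = θ (b * _)
    rw [map_mul, h.2]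
  | add x y hx hy =>
    rw [map_add, map_add, map_add]
    show (P'.ζ _ : Fin d → B') i + (P'.ζ _ : Fin d → B') i = θ ((P.ζ x : Fin d → B) i + (P.ζ y : Fin d → B) i)
    rw [hx, hy, map_add]

end Fam

/-- Good data on a fibre: after inverting `g` the kernel is generated by a regular sequence. -/
structure Good {d : ℕ} {R A k : Type u} [CommRing R] [CommRing A] [CommRing k] [Algebra R A] [Algebra R k]
    (P : Fam d R A k) where
  g : k ⊗[R] A
  rs : List (k ⊗[R] A)
  surj : Function.Surjective P.ζ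
  unit : IsUnit (P.ζ g)
  mem : ∀ r ∈ rs, P.ζ r = 0
  ker : ∀ x, P.ζ x = 0 → ∃ N : ℕ, g ^ N * x ∈ Ideal.ofList rs
  reg : ∀ (i : ℕ) (_ : i < rs.length) (x : k ⊗[R] A), rs[i] * x ∈ Ideal.ofList (rs.take i) →
    ∃ N : ℕ, g ^ N * x ∈ Ideal.ofList (rs.take i)

section nak

variable {B k : Type u} [CommRing B] [CommRing k] {d : ℕ}

theorem mem_smul_top (I : Ideal B) (T : Tab d B) (c : T.Alg) (h : ∀ i, (c : Fin d → B) i ∈ I) :
    c ∈ I • (⊤ : Submodule B T.Alg) := by
  rw [← T.basis.sum_repr c]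
  exact Submodule.sum_mem _ fun i _ => Submodule.smul_mem_smul (h i) Submodule.mem_top

theorem eq_top_of_mod [IsLocalRing B] (T : Tab d B) {θ : B →+* k} (hθ : RingHom.ker θ = IsLocalRing.maximalIdeal B)
    (N : Submodule B T.Alg)
    (h : ∀ c : T.Alg, ∃ n ∈ N, ∀ i, θ ((c : Fin d → B) i) = θ ((n : Fin d → B) i)) : N = ⊤ := by
  refine top_le_iff.1 (Submodule.le_of_le_smul_of_le_jacobson_bot Module.Finite.fg_top
    (IsLocalRing.jacobson_eq_maximalIdeal ⊥ bot_ne_top).ge fun c _ => ?_)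
  obtain ⟨n, hn, hc⟩ := h c
  rw [← add_sub_cancel n c]
  refine Submodule.add_mem_sup hn (mem_smul_top _ T _ fun i => ?_)
  rw [← hθ, RingHom.mem_ker]
  show θ ((c : Fin d → B) i - (n : Fin d → B) i) = 0
  rw [map_sub, hc i, sub_self]

theorem isUnit_of_mapHom [IsLocalRing B] (T : Tab d B) {θ : B →+* k}
    (hθ : RingHom.ker θ = IsLocalRing.maximalIdeal B) (hs : Function.Surjective θ) {x : T.Alg}
    (hx : IsUnit (T.mapHom θ x)) : IsUnit x := by
  have h := eq_top_of_mod T hθ (LinearMap.range (LinearMap.mulLeft B x)) fun c => by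
    obtain ⟨y, hy⟩ := hx.exists_right_inv
    obtain ⟨z, hz⟩ := T.mapHom_surjective θ hs (y * T.mapHom θ c)
    refine ⟨x * z, ⟨z, rfl⟩, fun i => ?_⟩
    have h2 : T.mapHom θ (x * z) = T.mapHom θ c := by rw [map_mul, hz, ← mul_assoc, hy, one_mul]
    exact (congrFun h2 i).symm
  obtain ⟨z, hz⟩ := h.ge (Submodule.mem_top : (1 : T.Alg) ∈ ⊤)
  exact IsUnit.of_mul_eq_one z hz

theorem exists_pow_killer {Λ : Type u} [CommRing Λ] (I F 𝔞 : Ideal Λ) (hI : I.FG) (h : Λ) (N : ℕ)
    (hN : ∀ x ∈ I, h ^ N * x ∈ F ⊔ 𝔞 * I) :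
    ∃ (e : Λ) (n : ℕ), e - h ^ n ∈ 𝔞 ∧ ∀ x ∈ I, e * x ∈ F := by
  let q : Λ →ₗ[Λ] Λ ⧸ F := Submodule.mkQ F
  let M : Submodule Λ (Λ ⧸ F) := Submodule.map q I
  haveI : Module.Finite Λ M := Module.Finite.iff_fg.2 (Submodule.FG.map q hI)
  let f : Module.End Λ M := algebraMap Λ _ (h ^ N)
  have hf : f.range ≤ 𝔞 • (⊤ : Submodule Λ M) := by
    rintro _ ⟨⟨m, x, hx, rfl⟩, rfl⟩
    obtain ⟨a, ha, b, hb, hab⟩ := Submodule.mem_sup.1 (hN x hx)
    have hb' : q b ∈ 𝔞 • M := by
      have h1 : b ∈ 𝔞 • (show Submodule Λ Λ from I) := hb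
      have h2 := Submodule.mem_map_of_mem (f := q) h1
      rwa [Submodule.map_smul''] at h2
    have h3 : q b = (f ⟨q x, x, hx, rfl⟩ : Λ ⧸ F) := by
      show q b = h ^ N • q x
      rw [← map_smul, smul_eq_mul, ← hab, map_add, show q a = 0 from (Submodule.Quotient.mk_eq_zero F).2 ha,
        zero_add]
    have h4 : 𝔞 • M = Submodule.map M.subtype (𝔞 • ⊤) := by
      rw [Submodule.map_smul'', Submodule.map_subtype_top]
    rw [h3, h4] at hb'
    obtain ⟨y, hy, hye⟩ := hb'
    rwa [← Subtype.ext hye]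
  obtain ⟨p, hm, -, hp, hp0⟩ := LinearMap.exists_monic_and_natDegree_eq_and_coeff_mem_pow_and_aeval_eq_zero Λ f 𝔞 hf
  refine ⟨p.eval (h ^ N), N * p.natDegree, ?_, fun x hx => ?_⟩
  · rw [Polynomial.eval_eq_sum_range, Finset.sum_range_succ, hm.coeff_natDegree, one_mul, ← pow_mul, add_sub_cancel_right]
    exact Ideal.sum_mem _ fun i hi => Ideal.mul_mem_right _ _
      (Ideal.pow_le_self (Nat.sub_ne_zero_of_lt (Finset.mem_range.1 hi)) (hp i))
  · rw [Polynomial.aeval_algebraMap_apply] at hp0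
    have h0 : p.eval (h ^ N) • q x = 0 := congrArg Subtype.val (LinearMap.congr_fun hp0 ⟨q x, x, hx, rfl⟩)
    rw [← map_smul] at h0
    exact (Submodule.Quotient.mk_eq_zero F).1 h0

end nak

variable {d : ℕ} {R A B B₀ k : Type u} [CommRing R] [CommRing A] [CommRing B] [CommRing B₀] [Field k]
  [Algebra R A] [Algebra R B] [Algebra R B₀] [Algebra R k]
  [Algebra.FinitePresentation R A] [IsLocalRing B₀]

theorem ker_red {B' : Type u} [CommRing B'] [Algebra R B'] (θ : B →ₐ[R] B') (hθ : Function.Surjective θ) :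
    RingHom.ker (Fam.red (A := A) θ) = (RingHom.ker θ).map (algebraMap B (B ⊗[R] A)) := by
  rw [Algebra.TensorProduct.map_ker _ _ hθ Function.surjective_id,
    show RingHom.ker (AlgHom.id R A) = ⊥ from (RingHom.injective_iff_ker_eq_bot _).1 Function.injective_id,
    Ideal.map_bot, sup_bot_eq]
  rfl

theorem ker_eq_max {B' : Type u} [CommRing B'] [IsLocalRing B'] [Algebra R B'] (ψ : B' →ₐ[R] k)
    (hψ : Function.Surjective ψ) : RingHom.ker ψ.toRingHom = IsLocalRing.maximalIdeal B' :=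
  IsLocalRing.eq_maximalIdeal (RingHom.ker_isMaximal_of_surjective ψ.toRingHom hψ)

/-- The data over the thickened base: generators and a kernel killer. -/
theorem exists_killer (ψ : B₀ →ₐ[R] k) (hψ : Function.Surjective ψ) (P₀ : Fam d R A B₀) (Pk : Fam d R A k)
    (hbc : Fam.IsBC ψ P₀ Pk) (Gd : Good Pk) :
    Function.Surjective P₀.ζ ∧ ∃ (u : B₀ ⊗[R] A) (fs : List (B₀ ⊗[R] A)),
      IsUnit (P₀.ζ u) ∧ (∀ f ∈ fs, P₀.ζ f = 0) ∧ fs.map (Fam.red ψ) = Gd.rs ∧
      (∃ n : ℕ, Fam.red ψ u = Gd.g ^ n * Gd.g) ∧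
      ∀ x, P₀.ζ x = 0 → u * x ∈ Ideal.ofList fs := by
  classical
  let m := IsLocalRing.maximalIdeal B₀
  have hker : RingHom.ker ψ.toRingHom = m := ker_eq_max ψ hψ
  have hred : Function.Surjective (Fam.red (A := A) ψ) :=
    Algebra.TensorProduct.map_surjective _ _ hψ Function.surjective_id
  have htop : LinearMap.range P₀.ζ.toLinearMap = ⊤ := eq_top_of_mod P₀.T hker _ fun c => by
    obtain ⟨y, hy⟩ := Gd.surj (fun i => ψ ((c : Fin d → B₀) i) : Fin d → k)
    obtain ⟨x, rfl⟩ := hred y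
    exact ⟨_, ⟨x, rfl⟩, fun i => (congrFun hy i).symm.trans (hbc.apply x i)⟩
  have hsurj : Function.Surjective P₀.ζ := fun c => htop.ge (Submodule.mem_top : c ∈ ⊤)
  refine ⟨hsurj, ?_⟩
  choose σ hσ using fun i => hsurj (P₀.T.basis i)
  let s : P₀.T.Alg →ₗ[B₀] B₀ ⊗[R] A := P₀.T.basis.constr B₀ σ
  have hs : ∀ c, P₀.ζ (s c) = c := fun c => by
    have h1 : P₀.ζ.toLinearMap.comp s = LinearMap.id := P₀.T.basis.ext fun i => by
      simp [s, hσ]
    exact LinearMap.congr_fun h1 c
  let p : B₀ ⊗[R] A →ₗ[B₀] B₀ ⊗[R] A := LinearMap.id - s.comp P₀.ζ.toLinearMap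
  have hp0 : ∀ x, P₀.ζ (p x) = 0 := fun x => by
    show P₀.ζ (x - s (P₀.ζ x)) = 0
    rw [map_sub, hs, sub_self]
  have hpx : ∀ x, P₀.ζ x = 0 → p x = x := fun x hx => by
    show x - s (P₀.ζ x) = x
    rw [hx, map_zero, sub_zero]
  let 𝔞 : Ideal (B₀ ⊗[R] A) := m.map (algebraMap B₀ _)
  have hk : RingHom.ker (Fam.red (A := A) ψ) = 𝔞 :=
    (ker_red (A := A) ψ hψ).trans (congrArg (Ideal.map _) hker)
  have hpr : ∀ x, (∀ i, ψ ((P₀.ζ x : Fin d → B₀) i) = 0) → Fam.red ψ (p x) = Fam.red ψ x := fun x hx => by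
    have h1 : s (P₀.ζ x) ∈ 𝔞 := by
      have h2 := Submodule.mem_map_of_mem (f := s) (mem_smul_top m P₀.T (P₀.ζ x) fun i => hker.le (hx i))
      rw [Submodule.map_smul''] at h2
      have h3 := Submodule.smul_mono le_rfl le_top h2
      rwa [Ideal.smul_top_eq_map, Submodule.restrictScalars_mem] at h3
    show Fam.red ψ (x - s (P₀.ζ x)) = _
    rw [map_sub, show Fam.red ψ (s (P₀.ζ x)) = 0 from hk.ge h1, sub_zero]
  choose lift hlift using hred
  let fs := Gd.rs.map fun r => p (lift r)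
  have hfs : ∀ f ∈ fs, P₀.ζ f = 0 := fun f hf => by
    obtain ⟨r, -, rfl⟩ := List.mem_map.1 hf
    exact hp0 _
  have hfr : fs.map (Fam.red ψ) = Gd.rs := by
    rw [List.map_map]
    conv_rhs => rw [← List.map_id Gd.rs]
    refine List.map_congr_left fun r hr => ?_
    show Fam.red ψ (p (lift r)) = r
    rw [hpr, hlift]
    intro i
    rw [← hbc.apply, hlift, Gd.mem r hr]
    rfl
  let I : Ideal (B₀ ⊗[R] A) := RingHom.ker P₀.ζ
  haveI : Module.FinitePresentation B₀ P₀.T.Alg := Module.finitePresentation_of_projective _ _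
  haveI : Algebra.FinitePresentation B₀ P₀.T.Alg := inferInstance
  have hI : I.FG := Algebra.FinitePresentation.ker_fG_of_surjective P₀.ζ hsurj
  have hmI : ∀ x ∈ 𝔞, x ∈ I → x ∈ 𝔞 * I := fun x hxa hxI => by
    have hx' : x ∈ m • (⊤ : Submodule B₀ (B₀ ⊗[R] A)) := by
      rw [Ideal.smul_top_eq_map, Submodule.restrictScalars_mem]
      exact hxa
    have h2 := Submodule.mem_map_of_mem (f := p) hx'
    rw [hpx x hxI, Submodule.map_smul''] at h2
    refine Submodule.smul_induction_on h2 (fun r hr y hy => ?_) fun a b => add_mem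
    obtain ⟨z, -, rfl⟩ := hy
    rw [Algebra.smul_def]
    exact Ideal.mul_mem_mul (Ideal.mem_map_of_mem _ hr) (hp0 z)
  let F := Ideal.ofList fs
  have hFI : F ≤ I := Ideal.span_le.2 fun f hf => hfs f hf
  let h := lift Gd.g
  have hx : ∀ x ∈ I, ∃ N : ℕ, h ^ N * x ∈ F ⊔ 𝔞 * I := fun x hx => by
    obtain ⟨N, hN⟩ := Gd.ker (Fam.red ψ x) (funext fun i => by rw [hbc.apply, show P₀.ζ x = 0 from hx]; exact map_zero ψ)
    rw [← hfr, show Ideal.ofList (fs.map (Fam.red (A := A) ψ)) = F.map (Fam.red (A := A) ψ).toRingHom from (Ideal.map_ofList _ _).symm] at hN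
    obtain ⟨φ, hφ, hφe⟩ := (Ideal.mem_map_iff_of_surjective (Fam.red ψ) fun y => ⟨lift y, hlift y⟩).1 hN
    refine ⟨N, ?_⟩
    rw [← add_sub_cancel φ (h ^ N * x)]
    refine Submodule.add_mem_sup hφ (hmI _ (hk.le ?_) (I.sub_mem (I.mul_mem_left _ hx) (hFI hφ)))
    rw [RingHom.mem_ker, map_sub, map_mul, map_pow, hlift, hφe, sub_self]
  obtain ⟨S, hS⟩ := hI
  choose! Nf hNf using fun x (hxS : x ∈ S) => hx x (hS.le (Submodule.subset_span hxS))
  have hN : ∀ x ∈ I, h ^ S.sup Nf * x ∈ F ⊔ 𝔞 * I := fun x hx => by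
    rw [← hS] at hx
    refine Submodule.span_induction (p := fun x _ => h ^ S.sup Nf * x ∈ F ⊔ 𝔞 * I) (fun y hy => ?_)
      (by simp) (fun a b _ _ ha hb => by rw [mul_add]; exact add_mem ha hb)
      (fun c a _ ha => by rw [smul_eq_mul, mul_left_comm]; exact Ideal.mul_mem_left _ _ ha) hx
    rw [← Nat.add_sub_cancel' (Finset.le_sup (f := Nf) hy), pow_add, mul_comm (h ^ Nf y), mul_assoc]
    exact Ideal.mul_mem_left _ _ (hNf y hy)
  obtain ⟨e, n, he, heI⟩ := exists_pow_killer I F 𝔞 ⟨S, hS⟩ h _ hN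
  have hre : Fam.red ψ (h * e) = Gd.g ^ n * Gd.g := by
    have h1 : Fam.red ψ e = Fam.red ψ (h ^ n) := sub_eq_zero.1 (by rw [← map_sub]; exact hk.ge he)
    rw [map_mul, h1, map_pow, hlift, mul_comm]
  refine ⟨h * e, fs, ?_, hfs, hfr, ⟨n, hre⟩, fun x hx => ?_⟩
  · refine isUnit_of_mapHom P₀.T hker hψ ?_
    have hu : IsUnit (Pk.ζ (Fam.red ψ (h * e))) := by
      rw [hre, map_mul, map_pow]
      exact (Gd.unit.pow n).mul Gd.unit
    obtain ⟨Tk, ζk⟩ := Pk
    obtain rfl : P₀.T.map ψ.toRingHom = Tk := hbc.1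
    rwa [show P₀.T.mapHom ψ.toRingHom (P₀.ζ (h * e)) = ζk (Fam.red ψ (h * e)) from
      funext fun i => (hbc.apply (h * e) i).symm]
  · rw [mul_assoc]
    exact F.mul_mem_left _ (heI x hx)

theorem map_take (f : B ⊗[R] A →+* B₀ ⊗[R] A) (l : List (B ⊗[R] A)) (i : ℕ) :
    (Ideal.ofList (l.take i)).map f = Ideal.ofList ((l.map f).take i) := by
  rw [Ideal.map_ofList, List.map_take]

omit [IsLocalRing B₀] in
/-- Flatness of the cut quotient. -/
theorem flat_cut [IsLocalRing B] [Module.Flat R A] (θ : B →ₐ[R] k) (hθ : Function.Surjective θ) (g : k ⊗[R] A)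
    (rs : List (k ⊗[R] A)) (hreg : ∀ (i : ℕ) (_ : i < rs.length) (x : k ⊗[R] A),
      rs[i] * x ∈ Ideal.ofList (rs.take i) → ∃ N : ℕ, g ^ N * x ∈ Ideal.ofList (rs.take i))
    (U : B ⊗[R] A) {n : ℕ} (hU : Fam.red θ U = g ^ n * g) (F : List (B ⊗[R] A)) (hF : F.map (Fam.red θ) = rs)
    (hfin : Module.Finite B (Localization.Away (Ideal.Quotient.mk (Ideal.ofList F) U))) :
    Module.Flat B (Localization.Away (Ideal.Quotient.mk (Ideal.ofList F) U)) := by
  have hk : RingHom.ker (Fam.red (A := A) θ) = (IsLocalRing.maximalIdeal B).map (algebraMap B _) :=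
    (ker_red (A := A) θ hθ).trans (congrArg (Ideal.map _) (ker_eq_max θ hθ))
  have hred : Function.Surjective (Fam.red (A := A) θ) :=
    Algebra.TensorProduct.map_surjective _ _ hθ Function.surjective_id
  let Q₁ := (B ⊗[R] A) ⧸ Ideal.ofList F
  let mk := Ideal.Quotient.mk (Ideal.ofList F)
  let Q := Localization.Away (mk U)
  have hflat : Module.Flat B (LocalizedModule (Submonoid.powers U) Q₁) := by
    refine FlatMorSlice.flat_away_of_forall U fun r _ hr => ?_
    by_cases hle : Ideal.ofList F ≤ r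
    · have hr1 : (r.map mk).IsPrime := Ideal.map_isPrime_of_surjective Ideal.Quotient.mk_surjective (by rwa [Ideal.mk_ker])
      have hcm : (r.map mk).comap mk = r := by
        rw [Ideal.comap_map_of_surjective _ Ideal.Quotient.mk_surjective, ← RingHom.ker_eq_comap_bot, Ideal.mk_ker]
        exact sup_eq_left.2 hle
      have hdis : Disjoint (Submonoid.powers (mk U) : Set Q₁) (r.map mk : Ideal Q₁) := by
        rw [Set.disjoint_left]
        rintro _ ⟨j, rfl⟩ hmem
        refine hr (Ideal.IsPrime.mem_of_pow_mem (I := r) inferInstance j ?_)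
        rw [← hcm, Ideal.mem_comap, map_pow]
        exact hmem
      have hp := IsLocalization.isPrime_of_isPrime_disjoint (Submonoid.powers (mk U)) Q (r.map mk) hr1 hdis
      obtain ⟨M, hM, hle'⟩ := Ideal.exists_le_maximal _ hp.ne_top
      haveI : Algebra.IsIntegral B Q := Algebra.IsIntegral.of_finite B Q
      have hMB : M.comap (algebraMap B Q) = IsLocalRing.maximalIdeal B :=
        IsLocalRing.eq_maximalIdeal (Ideal.isMaximal_comap_of_isIntegral_of_isMaximal (R := B) M)
      let φ : B ⊗[R] A →+* Q := (algebraMap Q₁ Q).comp mk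
      let q := M.comap φ
      haveI : q.IsPrime := Ideal.IsPrime.comap _
      have hrq : r ≤ q := fun x hx => hle' (Ideal.mem_map_of_mem _ (Ideal.mem_map_of_mem _ hx))
      have hUq : U ∉ q := fun h => hM.ne_top
        (Ideal.eq_top_of_isUnit_mem _ h (IsLocalization.Away.algebraMap_isUnit (mk U)))
      have hqB : q.comap (algebraMap B (B ⊗[R] A)) = IsLocalRing.maximalIdeal B := by
        rw [← hMB]
        rfl
      haveI : Module.Flat B (B ⊗[R] A) := inferInstance
      haveI : Module.Flat (B ⊗[R] A) (LocalizedModule q.primeCompl (B ⊗[R] A)) :=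
        Module.Flat.of_linearEquiv (IsLocalizedModule.iso q.primeCompl
          (Algebra.linearMap (B ⊗[R] A) (Localization q.primeCompl)))
      have hqflat : Module.Flat B (LocalizedModule q.primeCompl (B ⊗[R] A)) :=
        Module.Flat.trans B (B ⊗[R] A) _
      obtain ⟨c, hc, -, hfl⟩ := FlatMorSlice.exists_regular_sequence (⟨q, inferInstance⟩ : PrimeSpectrum _) hqflat F
        fun i hi x ⟨c, hc, hcx⟩ => by
        show ∃ c ∉ q, _
        rw [hqB] at hcx ⊢
        have hi' : i < rs.length := by rw [← hF, List.length_map]; exact hi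
        have h1 : rs[i] * (Fam.red θ (c * x)) ∈ Ideal.ofList (rs.take i) := by
          have h2 := Ideal.mem_map_of_mem (Fam.red (A := A) θ).toRingHom hcx
          rw [Ideal.map_sup, show (Ideal.ofList (F.take i)).map (Fam.red (A := A) θ).toRingHom = Ideal.ofList (rs.take i) from
            by rw [Ideal.map_ofList, List.map_take]; exact congrArg (fun l => Ideal.ofList (List.take i l)) hF] at h2
          have h3 : ((IsLocalRing.maximalIdeal B).map (algebraMap B (B ⊗[R] A))).map (Fam.red (A := A) θ).toRingHom = ⊥ :=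
            (Ideal.map_eq_bot_iff_le_ker _).2 hk.ge
          rw [h3, bot_sup_eq] at h2
          have h4 : rs[i] = Fam.red θ F[i] := by simp [← hF]
          rw [h4, ← map_mul]
          rwa [mul_left_comm] at h2
        obtain ⟨N, hN⟩ := hreg i hi' _ h1
        refine ⟨U ^ N * c, q.primeCompl.mul_mem (q.primeCompl.pow_mem hUq N) hc, ?_⟩
        have hgN : Fam.red θ (U ^ N * c * x) ∈ Ideal.ofList (rs.take i) := by
          rw [mul_assoc, map_mul, map_pow, hU, mul_pow, mul_assoc]
          exact Ideal.mul_mem_left _ _ hN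
        rw [show Ideal.ofList (rs.take i) = (Ideal.ofList (F.take i)).map (Fam.red (A := A) θ).toRingHom from
          by rw [Ideal.map_ofList, List.map_take]; exact (congrArg (fun l => Ideal.ofList (List.take i l)) hF).symm] at hgN
        obtain ⟨y, hy, hye⟩ := (Ideal.mem_map_iff_of_surjective _ hred).1 hgN
        rw [← sub_add_cancel (U ^ N * c * x) y]
        exact Submodule.add_mem_sup (hk.le (by rw [RingHom.mem_ker, map_sub]; exact sub_eq_zero.2 hye.symm)) hy
      exact hfl r fun h => hc (hrq h)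
    · obtain ⟨x, hx, hxr⟩ := SetLike.not_le_iff_exists.1 hle
      haveI : Subsingleton (LocalizedModule r.primeCompl Q₁) := by
        refine LocalizedModule.subsingleton_iff.2 fun m => ⟨x, hxr, ?_⟩
        obtain ⟨y, rfl⟩ := Ideal.Quotient.mk_surjective m
        show Ideal.Quotient.mk (Ideal.ofList F) (x * y) = 0
        exact Ideal.Quotient.eq_zero_iff_mem.2 (Ideal.mul_mem_right _ _ hx)
      infer_instance
  let ι : Q₁ →ₗ[B ⊗[R] A] Q := (IsScalarTower.toAlgHom (B ⊗[R] A) Q₁ Q).toLinearMap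
  haveI : IsLocalizedModule (Submonoid.powers U) ι := isLocalizedModule_iff_isLocalization.2 (by
    rw [show Algebra.algebraMapSubmonoid Q₁ (Submonoid.powers U) = Submonoid.powers (mk U) from Submonoid.map_powers _ _]
    exact inferInstanceAs (IsLocalization.Away (mk U) Q))
  exact Module.Flat.of_linearEquiv ((IsLocalizedModule.iso (Submonoid.powers U) ι).restrictScalars B).symm

/-- **Lifting**: good data lift along square-zero thickenings. -/
theorem exists_lift [IsLocalRing B] [Module.Flat R A] (π : B →ₐ[R] B₀) (hπ : Function.Surjective π)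
    (hJ : ∀ x y, π x = 0 → π y = 0 → x * y = 0) (ψ : B₀ →ₐ[R] k) (hψ : Function.Surjective ψ)
    (P₀ : Fam d R A B₀) (Pk : Fam d R A k) (hbc : Fam.IsBC ψ P₀ Pk) (Gd : Good Pk) :
    ∃ P : Fam d R A B, Fam.IsBC π P P₀ := by
  classical
  obtain ⟨hsurj, u, fs, hu, hfs, hfr, ⟨n, hun⟩, hkill⟩ := exists_killer ψ hψ P₀ Pk hbc Gd
  have hpA : Function.Surjective (Fam.red (A := A) π) :=
    Algebra.TensorProduct.map_surjective _ _ hπ Function.surjective_id
  choose lift hlift using hpA
  let U := lift u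
  let F := fs.map lift
  have hFmap : F.map (Fam.red π) = fs := by
    rw [List.map_map]
    conv_rhs => rw [← List.map_id fs]
    exact List.map_congr_left fun f _ => hlift f
  have hcomp : (Fam.red (A := A) ψ).comp (Fam.red π) = Fam.red (ψ.comp π) := by
    apply Algebra.TensorProduct.ext' fun b a => ?_
    simp
  have hred : ∀ x, Fam.red (A := A) ψ (Fam.red π x) = Fam.red (ψ.comp π) x := fun x => AlgHom.congr_fun hcomp x
  let mk := Ideal.Quotient.mk (Ideal.ofList F)
  let Q₁ := (B ⊗[R] A) ⧸ Ideal.ofList F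
  let Q := Localization.Away (mk U)
  let χ₁ : Q₁ →+* P₀.T.Alg := Ideal.Quotient.lift _ (P₀.ζ.toRingHom.comp (Fam.red π).toRingHom) fun x hx => by
    refine (Ideal.span_le (I := RingHom.ker (P₀.ζ.toRingHom.comp (Fam.red π).toRingHom))).2 (fun f hf => ?_) hx
    obtain ⟨f₀, hf₀, rfl⟩ := List.mem_map.1 hf
    show P₀.ζ (Fam.red π (lift f₀)) = 0
    rw [hlift, hfs f₀ hf₀]
  have hχ₁ : ∀ x, χ₁ (mk x) = P₀.ζ (Fam.red π x) := fun x => rfl
  let χ : Q →+* P₀.T.Alg := IsLocalization.Away.lift (mk U) (g := χ₁) (by rw [hχ₁, hlift]; exact hu)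
  have hχ : ∀ x, χ (algebraMap Q₁ Q (mk x)) = P₀.ζ (Fam.red π x) := fun x =>
    (IsLocalization.Away.lift_eq (mk U) _ _).trans (hχ₁ x)
  have hχs : ∀ (b : B) (q : Q), χ (b • q) = π b • χ q := fun b q => by
    rw [Algebra.smul_def, map_mul, Algebra.smul_def, IsScalarTower.algebraMap_apply B Q₁ Q]
    congr 1
    refine (hχ (algebraMap B _ b)).trans ?_
    rw [show Fam.red (A := A) π (algebraMap B (B ⊗[R] A) b) = algebraMap B₀ _ (π b) by
      simp [Algebra.TensorProduct.algebraMap_apply]]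
    exact P₀.ζ.commutes _
  let J := RingHom.ker π.toRingHom
  have hkerχ : ∀ q, χ q = 0 → q ∈ J • (⊤ : Submodule B Q) := fun q hq => by
    obtain ⟨⟨a, s⟩, has⟩ := IsLocalization.surj (Submonoid.powers (mk U)) q
    obtain ⟨a, rfl⟩ := Ideal.Quotient.mk_surjective a
    have ha : P₀.ζ (Fam.red π a) = 0 := by
      rw [← hχ, ← has, map_mul, hq, zero_mul]
    have h1 := hkill _ ha
    rw [← hFmap, show Ideal.ofList (F.map (Fam.red (A := A) π)) = (Ideal.ofList F).map (Fam.red (A := A) π).toRingHom from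
      (Ideal.map_ofList _ _).symm] at h1
    obtain ⟨y, hy, hye⟩ := (Ideal.mem_map_iff_of_surjective (Fam.red (A := A) π).toRingHom fun z => ⟨lift z, hlift z⟩).1 h1
    have h2 : U * a - y ∈ J.map (algebraMap B (B ⊗[R] A)) := by
      refine (ker_red (A := A) π hπ).le ?_
      rw [RingHom.mem_ker, map_sub, map_mul, hlift, sub_eq_zero]
      exact hye.symm
    rw [Ideal.smul_top_eq_map, Submodule.restrictScalars_mem]
    have h3 : algebraMap Q₁ Q (mk (U * a)) ∈ J.map (algebraMap B Q) := by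
      have h4 := Ideal.mem_map_of_mem ((algebraMap Q₁ Q).comp mk) h2
      rw [Ideal.map_map] at h4
      rw [RingHom.comp_apply, map_sub mk, show mk y = 0 from Ideal.Quotient.eq_zero_iff_mem.2 hy, sub_zero] at h4
      exact h4
    rw [map_mul mk, map_mul, show algebraMap Q₁ Q (mk a) = algebraMap Q₁ Q s.1 * q by rw [← has, mul_comm]] at h3
    rwa [Ideal.unit_mul_mem_iff_mem _ (IsLocalization.Away.algebraMap_isUnit (mk U)),
      Ideal.unit_mul_mem_iff_mem _ (IsLocalization.map_units Q s)] at h3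
  choose σ hσ using fun i => hsurj (P₀.T.basis i)
  let v : Fin d → Q := fun i => algebraMap Q₁ Q (mk (lift (σ i)))
  have hv : ∀ i, χ (v i) = P₀.T.basis i := fun i => (hχ _).trans ((congrArg P₀.ζ (hlift _)).trans (hσ i))
  let L : (Fin d → B) →ₗ[B] Q := Fintype.linearCombination B v
  have hL : ∀ x, χ (L x) = fun i => π (x i) := fun x => by
    show χ (∑ i, x i • v i) = _
    rw [map_sum]
    simp only [hχs, hv]
    exact P₀.T.basis.sum_repr (fun i => π (x i) : P₀.T.Alg)
  have hgen : ∀ q : Q, ∃ x, q - L x ∈ J • (⊤ : Submodule B Q) := fun q => by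
    choose x hx using fun i => hπ ((χ q : Fin d → B₀) i)
    refine ⟨x, hkerχ _ ?_⟩
    rw [map_sub, hL, sub_eq_zero]
    exact funext fun i => (hx i).symm
  have hrange : LinearMap.range L = ⊤ := top_le_iff.1 fun q _ => by
    obtain ⟨x, hx⟩ := hgen q
    rw [← add_sub_cancel (L x) q]
    refine add_mem ⟨x, rfl⟩ (Submodule.smul_induction_on hx (fun r hr y _ => ?_) fun a b => add_mem)
    obtain ⟨z, hz⟩ := hgen y
    rw [← add_sub_cancel (L z) y, smul_add]
    refine add_mem (Submodule.smul_mem _ _ ⟨z, rfl⟩) ?_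
    refine Submodule.smul_induction_on hz (fun r' hr' w _ => ?_) fun a b ha hb => by rw [smul_add]; exact add_mem ha hb
    rw [smul_smul, hJ r r' hr hr', zero_smul]
    exact zero_mem _
  haveI hfin : Module.Finite B Q := Module.Finite.of_surjective L (LinearMap.range_eq_top.1 hrange)
  have hθ : Function.Surjective (ψ.comp π) := hψ.comp hπ
  haveI : Module.Flat B Q := flat_cut (ψ.comp π) hθ Gd.g Gd.rs Gd.reg U (n := n)
    (by rw [← hred, hlift, hun]) F (by
      rw [← hfr, ← hFmap, List.map_map (f := Fam.red π)]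
      exact List.map_congr_left fun x _ => (hred x).symm) hfin
  haveI : Module.Free B Q := Module.free_of_flat_of_isLocalRing
  obtain ⟨s, hs⟩ := Module.projective_lifting_property L LinearMap.id (LinearMap.range_eq_top.1 hrange)
  have hLs : ∀ q, L (s q) = q := fun q => LinearMap.congr_fun hs q
  have hinj : Function.Injective L := by
    let p : (Fin d → B) →ₗ[B] (Fin d → B) := LinearMap.id - s.comp L
    have hLp : ∀ x, L (p x) = 0 := fun x => by show L (x - s (L x)) = 0; rw [map_sub, hLs, sub_self]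
    have hmem : ∀ x, L x = 0 → ∀ i, π (x i) = 0 := fun x hx i => by
      have h := hL x
      rw [hx, map_zero] at h
      exact (congrFun h i).symm
    refine LinearMap.ker_eq_bot.1 ((Submodule.eq_bot_iff _).2 fun x (hx : L x = 0) => ?_)
    have hxe : x = ∑ i, x i • p (Pi.single i 1) := by
      conv_lhs => rw [show x = p x by show x = x - s (L x); rw [hx, map_zero, sub_zero]]
      conv_lhs => rw [pi_eq_sum_univ' x]
      simp only [map_sum, map_smul]
    rw [hxe]
    funext j
    rw [Finset.sum_apply]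
    exact Finset.sum_eq_zero fun i _ => hJ _ _ (hmem x hx i) (hmem _ (hLp _) j)
  let b : Module.Basis (Fin d) B Q := Module.Basis.ofEquivFun (LinearEquiv.ofBijective L ⟨hinj, LinearMap.range_eq_top.1 hrange⟩).symm
  have hbv : ∀ i, b i = v i := fun i => by
    simp only [b, Module.Basis.coe_ofEquivFun, LinearEquiv.symm_symm, LinearEquiv.ofBijective_apply]
    simp [L, Fintype.linearCombination_apply_single]
  have hrep : ∀ q i, π (b.repr q i) = (χ q : Fin d → B₀) i := fun q i => by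
    conv_rhs => rw [← b.sum_repr q]
    simp only [hbv]
    exact (congrFun (hL fun i => b.repr q i) i).symm
  let ζ : B ⊗[R] A →ₐ[B] (Tab.ofBasis b).Alg := (Tab.ofBasisEquiv b).symm.toAlgHom.comp
    ((IsScalarTower.toAlgHom B Q₁ Q).comp (Ideal.Quotient.mkₐ B (Ideal.ofList F)))
  refine ⟨⟨Tab.ofBasis b, ζ⟩, Tab.ext' (funext fun i => funext fun j => funext fun l => ?_) (funext fun i => ?_),
    fun a i => ?_⟩
  · show π (b.repr (b i * b j) l) = _
    rw [hrep, map_mul, hbv, hbv, hv, hv, Tab.basis_mul]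
    exact congrFun (P₀.T.basis.sum_repr (P₀.T.m i j : P₀.T.Alg)) l
  · show π (b.repr 1 i) = _
    rw [hrep, map_one]
    rfl
  · show _ = π (b.repr (algebraMap Q₁ Q (mk (1 ⊗ₜ[R] a))) i)
    rw [hrep, hχ]
    simp

end Groth.Agent.Stk19b.FlatQuot
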