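import Groth.Agent.Stk19b.FlatQuot.Univ
import Groth.Agent.Stk19b.FlatQuot.Lift
import Mathlib.Algebra.Category.Ring.Constructions

/-! Points of the scheme of framed maps over affine schemes. -/

set_option autoImplicit false
set_option linter.style.haveILetI false
set_option linter.unusedSectionVars false
set_option backward.isDefEq.respectTransparency false
set_option backward.isDefEq.respectTransparency.types false

universe u

open CategoryTheory CategoryTheory.Limits AlgebraicGeometry TensorProduct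

noncomputable section

namespace Groth.Agent.Stk19b.FlatQuot

/-- Base change of the algebras of two tables related by a map of rings. -/
def tabHom {d : ℕ} {B B' : Type u} [CommRing B] [CommRing B'] {T : Tab d B} {T' : Tab d B'} (θ : B →+* B')
    (h : T.map θ = T') : T.Alg →+* T'.Alg where
  toFun x := fun i => θ ((x : Fin d → B) i)
  map_one' := by subst h; exact map_one (T.mapHom θ)
  map_mul' x y := by subst h; exact map_mul (T.mapHom θ) x y
  map_zero' := by subst h; exact map_zero (T.mapHom θ)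
  map_add' x y := by subst h; exact map_add (T.mapHom θ) x y

theorem isPullback_tabHom {d : ℕ} {B B' : Type u} [CommRing B] [CommRing B'] {T : Tab d B} {T' : Tab d B'}
    (θ : B →+* B') (h : T.map θ = T') :
    IsPullback (Spec.map (CommRingCat.ofHom (tabHom θ h)))
      (Spec.map (CommRingCat.ofHom (algebraMap B' T'.Alg)))
      (Spec.map (CommRingCat.ofHom (algebraMap B T.Alg))) (Spec.map (CommRingCat.ofHom θ)) := by
  subst h
  letI := θ.toAlgebra
  letI := (T.mapHom θ).toAlgebra
  letI := ((algebraMap B' (T.map θ).Alg).comp θ).toAlgebra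
  haveI : IsScalarTower B B' (T.map θ).Alg := IsScalarTower.of_algebraMap_eq fun _ => rfl
  haveI : IsScalarTower B T.Alg (T.map θ).Alg :=
    IsScalarTower.of_algebraMap_eq fun c => (T.mapHom_algebraMap θ c).symm
  haveI : Algebra.IsPushout B B' T.Alg (T.map θ).Alg := map_pushout T θ
  haveI : Algebra.IsPushout B T.Alg B' (T.map θ).Alg := Algebra.IsPushout.symm inferInstance
  exact isPullback_SpecMap_of_isPushout _ _ _ _ (CommRingCat.isPushout_of_isPushout B T.Alg B' (T.map θ).Alg)

theorem tab_map_map {d : ℕ} {B B' B'' : Type u} [CommRing B] [CommRing B'] [CommRing B''] (T : Tab d B)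
    (a : B →+* B') (b : B' →+* B'') : (T.map a).map b = T.map (b.comp a) := Tab.ext' rfl rfl

variable {S : Scheme.{u}}

/-- An affine piece of `G` over an affine piece of the base. -/
structure Chart (G : Over S) (R A : Type u) [CommRing R] [CommRing A] [Algebra R A] where
  j : Spec (CommRingCat.of R) ⟶ S
  imm : IsOpenImmersion j
  gA : Spec (CommRingCat.of A) ⟶ G.left
  pb : IsPullback gA (Spec.map (CommRingCat.ofHom (algebraMap R A))) G.hom j

namespace Chart

variable {G : Over S} {R A : Type u} [CommRing R] [CommRing A] [Algebra R A] (C : Chart G R A)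
variable {B B' : Type u} [CommRing B] [CommRing B'] [Algebra R B] [Algebra R B'] {d : ℕ}

/-- An affine test object. -/
abbrev T (B : Type u) [CommRing B] [Algebra R B] : Over S :=
  Over.mk (Spec.map (CommRingCat.ofHom (algebraMap R B)) ≫ C.j)

/-- The map of test objects. -/
def Tmap (θ : B →ₐ[R] B') : C.T B' ⟶ C.T B :=
  Over.homMk (Spec.map (CommRingCat.ofHom θ.toRingHom)) (by
    show _ ≫ Spec.map _ ≫ C.j = Spec.map _ ≫ C.j
    rw [← Spec.map_comp_assoc, ← CommRingCat.ofHom_comp,
      show θ.toRingHom.comp (algebraMap R B) = algebraMap R B' from θ.comp_algebraMap])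

/-- A choice of classifying map. -/
def cls (T₀ : Tab (d + 1) B) : UR.{u} d →+* B := (exists_classify' T₀).choose

theorem cls_spec (T₀ : Tab (d + 1) B) : (uTab d).map (cls T₀) = T₀ := (exists_classify' T₀).choose_spec

theorem cls_unique {T₀ : Tab (d + 1) B} {θ : UR.{u} d →+* B} (h : (uTab d).map θ = T₀) : θ = cls T₀ := by
  have h' : (uTab d).map θ = (uTab d).map (cls T₀) := h.trans (cls_spec T₀).symm
  suffices θ.comp ULift.ringEquiv.{0, u}.symm.toRingHom = (cls T₀).comp ULift.ringEquiv.{0, u}.symm.toRingHom by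
    exact RingHom.ext fun x => RingHom.congr_fun this x.down
  refine Ideal.Quotient.ringHom_ext (MvPolynomial.ringHom_ext (fun n => ?_) fun v => ?_)
  · simp
  · rcases v with ⟨i, j, k⟩ | i
    · exact congrFun (congrFun (congrFun (congrArg Tab.m h') i) j) k
    · exact congrFun (congrArg Tab.e h') i

variable (P : Fam (d + 1) R A B)

/-- The table part of the point of a family. -/
def c : C.T B ⟶ cS S :=
  Over.homMk (prod.lift (C.T B).hom (Spec.map (CommRingCat.ofHom (cls P.T)) ≫ Sigma.ι cPiece.{u} ⟨d⟩)) (prod.lift_fst _ _)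

theorem c_snd : (C.c P).left ≫ prod.snd = Spec.map (CommRingCat.ofHom (cls P.T)) ≫ Sigma.ι cPiece.{u} ⟨d⟩ :=
  prod.lift_snd _ _

theorem outer :
    IsPullback (Spec.map (CommRingCat.ofHom (tabHom (cls P.T) (cls_spec P.T))) ≫ Sigma.ι zPiece.{u} ⟨d⟩)
      (Spec.map (CommRingCat.ofHom (algebraMap B P.T.Alg))) pUniv.{u} ((C.c P).left ≫ prod.snd) := by
  rw [c_snd]
  exact (isPullback_tabHom (cls P.T) (cls_spec P.T)).paste_horiz (isPullback_sigmaMap pPiece.{u} ⟨d⟩).flip

/-- The finite scheme of a family in the universal one. -/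
def zmap : Spec (CommRingCat.of P.T.Alg) ⟶ zS S :=
  pullback.lift (Spec.map (CommRingCat.ofHom (tabHom (cls P.T) (cls_spec P.T))) ≫ Sigma.ι zPiece.{u} ⟨d⟩)
    (Spec.map (CommRingCat.ofHom (algebraMap B P.T.Alg)) ≫ (C.c P).left)
    (by rw [(C.outer P).w, Category.assoc])

theorem isPullback_zmap :
    IsPullback (C.zmap P) (Spec.map (CommRingCat.ofHom (algebraMap B P.T.Alg))) (pS S) (C.c P).left := by
  refine IsPullback.of_right ?_ (pullback.lift_snd _ _ _) (IsPullback.of_hasPullback _ _)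
  rw [zmap, pullback.lift_fst]
  exact C.outer P

/-- The finite scheme of a family. -/
def iso : Spec (CommRingCat.of P.T.Alg) ≅ (fam (C.c P)).left := (C.isPullback_zmap P).isoPullback

theorem iso_fst : (C.iso P).hom ≫ pullback.fst _ _ = C.zmap P := IsPullback.isoPullback_hom_fst _

theorem iso_snd : (C.iso P).hom ≫ pullback.snd (pS S) (C.c P).left = Spec.map (CommRingCat.ofHom (algebraMap B P.T.Alg)) :=
  IsPullback.isoPullback_hom_snd _

/-- The map to `G` on the algebra of a family. -/
def ζA : A →+* P.T.Alg := P.ζ.toRingHom.comp (Algebra.TensorProduct.includeRight : A →ₐ[R] B ⊗[R] A).toRingHom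

theorem ζA_algebraMap (r : R) : ζA P (algebraMap R A r) = algebraMap B P.T.Alg (algebraMap R B r) := by
  show P.ζ (Algebra.TensorProduct.includeRight (algebraMap R A r)) = _
  rw [AlgHom.commutes, IsScalarTower.algebraMap_apply R B (B ⊗[R] A), AlgHom.commutes]

/-- The map to `G` of a family. -/
def φ : fam (C.c P) ⟶ G :=
  Over.homMk ((C.iso P).inv ≫ Spec.map (CommRingCat.ofHom (ζA P)) ≫ C.gA) (by
    rw [Category.assoc, Category.assoc, C.pb.w, Iso.inv_comp_eq]
    show _ = (C.iso P).hom ≫ pullback.snd (pS S) (C.c P).left ≫ Spec.map _ ≫ C.j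
    rw [reassoc_of% (C.iso_snd P), ← Spec.map_comp_assoc, ← Spec.map_comp_assoc, ← CommRingCat.ofHom_comp,
      ← CommRingCat.ofHom_comp, show (ζA P).comp (algebraMap R A) = (algebraMap B P.T.Alg).comp (algebraMap R B) from
        RingHom.ext (ζA_algebraMap P)])

variable (U : Univ G)

/-- The point of a family. -/
def pt : C.T B ⟶ U.M := U.classify (C.c P) (C.φ P)

theorem pt_π : C.pt P U ≫ U.π = C.c P := U.classify_π _ _

variable {P}

theorem iso_famMap {θ : B →ₐ[R] B'} {P' : Fam (d + 1) R A B'} (hT : P.T.map θ.toRingHom = P'.T)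
    (hc : C.Tmap θ ≫ C.c P = C.c P') :
    (C.iso P').hom ≫ (famMap (C.Tmap θ) hc).left =
      Spec.map (CommRingCat.ofHom (tabHom θ.toRingHom hT)) ≫ (C.iso P).hom := by
  have hθ : θ.toRingHom.comp (cls P.T) = cls P'.T := cls_unique (by
    rw [← tab_map_map, cls_spec, hT])
  have hr : (tabHom θ.toRingHom hT).comp (tabHom (cls P.T) (cls_spec P.T)) = tabHom (cls P'.T) (cls_spec P'.T) :=
    RingHom.ext fun x => funext fun i => RingHom.congr_fun hθ ((x : Fin (d + 1) → UR.{u} d) i)
  have ha : (tabHom θ.toRingHom hT).comp (algebraMap B P.T.Alg) = (algebraMap B' P'.T.Alg).comp θ.toRingHom := by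
    obtain ⟨T', ζ'⟩ := P'
    change P.T.map θ.toRingHom = T' at hT
    subst hT
    exact RingHom.ext fun b => P.T.mapHom_algebraMap θ.toRingHom b
  have hw : Spec.map (CommRingCat.ofHom (algebraMap B' P'.T.Alg)) ≫ (C.Tmap θ).left =
      Spec.map (CommRingCat.ofHom (tabHom θ.toRingHom hT)) ≫ Spec.map (CommRingCat.ofHom (algebraMap B P.T.Alg)) := by
    show _ ≫ Spec.map _ = _
    rw [← Spec.map_comp, ← Spec.map_comp, ← CommRingCat.ofHom_comp, ← CommRingCat.ofHom_comp, ha]
  apply pullback.hom_ext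
  · show ((C.iso P').hom ≫ pullback.lift _ _ _) ≫ pullback.fst _ _ = _
    rw [Category.assoc, pullback.lift_fst, iso_fst, Category.assoc, iso_fst]
    apply pullback.hom_ext
    · rw [zmap, zmap, pullback.lift_fst, Category.assoc, pullback.lift_fst, ← Spec.map_comp_assoc,
        ← CommRingCat.ofHom_comp, hr]
    · rw [zmap, zmap, pullback.lift_snd, Category.assoc, pullback.lift_snd, ← hc, Over.comp_left,
        reassoc_of% hw]
  · show ((C.iso P').hom ≫ pullback.lift _ _ _) ≫ pullback.snd _ _ = _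
    rw [Category.assoc, pullback.lift_snd, reassoc_of% (C.iso_snd P'), Category.assoc, iso_snd, hw]

/-- Base change of families and restriction of points agree. -/
theorem isBC_iff {θ : B →ₐ[R] B'} {P' : Fam (d + 1) R A B'} :
    C.Tmap θ ≫ C.pt P U = C.pt P' U ↔ Fam.IsBC θ P P' := by
  haveI := C.imm
  have hkey : P.T.map θ.toRingHom = P'.T → C.Tmap θ ≫ C.c P = C.c P' := fun hT => by
    refine Over.OverMorphism.ext ?_
    apply prod.hom_ext
    · exact (Over.w (C.Tmap θ ≫ C.c P)).trans (Over.w (C.c P')).symm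
    · rw [Over.comp_left, Category.assoc, c_snd, c_snd]
      show Spec.map _ ≫ _ = _
      rw [← Spec.map_comp_assoc, ← CommRingCat.ofHom_comp, show θ.toRingHom.comp (cls P.T) = cls P'.T from
        cls_unique (by rw [← tab_map_map, cls_spec, hT])]
  constructor
  · intro h
    have hc : C.Tmap θ ≫ C.c P = C.c P' := by
      rw [← C.pt_π P U, ← Category.assoc, h, pt_π]
    have hs := congrArg (fun f => f.left ≫ prod.snd) hc
    simp only [Over.comp_left, Category.assoc, c_snd] at hs
    have hs' : θ.toRingHom.comp (cls P.T) = cls P'.T := by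
      change Spec.map _ ≫ _ = _ at hs
      rw [← Spec.map_comp_assoc, cancel_mono, Spec.map_inj, ← CommRingCat.ofHom_comp] at hs
      exact congrArg CommRingCat.Hom.hom hs
    have hT : P.T.map θ.toRingHom = P'.T := by
      rw [← congrArg (Tab.map · θ.toRingHom) (cls_spec P.T), tab_map_map, hs', cls_spec]
    refine ⟨hT, fun a i => ?_⟩
    have h1 : famMap (C.Tmap θ) hc ≫ C.φ P = C.φ P' := by
      have h2 := U.famMap_classify (C.c P) (C.φ P) (C.pt_π P U)
      have h3 := U.famMap_classify (C.c P') (C.φ P') (C.pt_π P' U)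
      have h4 : (C.Tmap θ ≫ C.pt P U) ≫ U.π = C.c P' := by rw [h, pt_π]
      rw [← h2, ← h3, ← Category.assoc, famMap_comp]
      exact congrArg (· ≫ U.ev) (famMap_congr h _ _)
    have h5 := congrArg (fun f => (C.iso P').hom ≫ f.left) h1
    simp only [φ, Over.comp_left, Over.homMk_left] at h5
    rw [← Category.assoc, C.iso_famMap hT hc, Category.assoc, Iso.hom_inv_id_assoc, Iso.hom_inv_id_assoc,
      ← Spec.map_comp_assoc, ← CommRingCat.ofHom_comp] at h5
    haveI : Mono C.gA := C.pb.mono_fst_of_mono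
    rw [cancel_mono, Spec.map_inj] at h5
    exact (congrFun (RingHom.congr_fun (congrArg CommRingCat.Hom.hom h5) a) i).symm
  · intro hbc
    have hc := hkey hbc.1
    have h4 : (C.Tmap θ ≫ C.pt P U) ≫ U.π = C.c P' := by rw [Category.assoc, pt_π, hc]
    refine U.eq_classify h4 ?_
    rw [← famMap_comp (c' := C.c P) (C.Tmap θ) hc (C.pt P U) (C.pt_π P U), Category.assoc]
    rw [show famMap (C.pt P U) (C.pt_π P U) ≫ U.ev = C.φ P from U.famMap_classify _ _ _]
    refine Over.OverMorphism.ext ?_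
    rw [← cancel_epi (C.iso P').hom]
    simp only [φ, Over.comp_left, Over.homMk_left]
    rw [← Category.assoc, C.iso_famMap hbc.1 hc, Category.assoc, Iso.hom_inv_id_assoc, Iso.hom_inv_id_assoc,
      ← Spec.map_comp_assoc, ← CommRingCat.ofHom_comp]
    congr 3
    exact RingHom.ext fun a => funext fun i => (hbc.2 a i).symm

/-- Every point in a given piece comes from a family. -/
theorem exists_pt (v : C.T B ⟶ U.M) (θ : UR.{u} d →+* B)
    (hv : (v ≫ U.π).left ≫ prod.snd = Spec.map (CommRingCat.ofHom θ) ≫ Sigma.ι cPiece.{u} ⟨d⟩) :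
    ∃ P : Fam (d + 1) R A B, C.pt P U = v := by
  let T₀ := (uTab d).map θ
  let P₀ : Fam (d + 1) R A B → Prop := fun P => P.T = T₀
  have hθ : cls T₀ = θ := (cls_unique (rfl : (uTab d).map θ = T₀)).symm
  have hcT : ∀ P : Fam (d + 1) R A B, P₀ P → v ≫ U.π = C.c P := fun P hP => by
    refine Over.OverMorphism.ext ?_
    apply prod.hom_ext
    · exact (Over.w (v ≫ U.π)).trans (Over.w (C.c P)).symm
    · rw [hv, c_snd, show cls P.T = θ from hP ▸ hθ]
  suffices ∃ P : Fam (d + 1) R A B, ∃ h : P₀ P, famMap v (hcT P h) ≫ U.ev = C.φ P by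
    obtain ⟨P, h, he⟩ := this
    exact ⟨P, (U.eq_classify (hcT P h) he).symm⟩
  -- the finite scheme and the map to `G`
  let c₀ : C.T B ⟶ cS S := v ≫ U.π
  have houter : IsPullback (Spec.map (CommRingCat.ofHom (tabHom θ (rfl : (uTab d).map θ = T₀))) ≫ Sigma.ι zPiece.{u} ⟨d⟩)
      (Spec.map (CommRingCat.ofHom (algebraMap B T₀.Alg))) pUniv.{u} (c₀.left ≫ prod.snd) := by
    rw [hv]
    exact (isPullback_tabHom θ rfl).paste_horiz (isPullback_sigmaMap pPiece.{u} ⟨d⟩).flip
  let z : Spec (CommRingCat.of T₀.Alg) ⟶ zS S :=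
    pullback.lift (Spec.map (CommRingCat.ofHom (tabHom θ (rfl : (uTab d).map θ = T₀))) ≫ Sigma.ι zPiece.{u} ⟨d⟩)
      (Spec.map (CommRingCat.ofHom (algebraMap B T₀.Alg)) ≫ c₀.left) (by rw [houter.w, Category.assoc])
  let e : Spec (CommRingCat.of T₀.Alg) ⟶ (fam c₀).left :=
    pullback.lift z (Spec.map (CommRingCat.ofHom (algebraMap B T₀.Alg))) (pullback.lift_snd _ _ _)
  let φ₀ := famMap v (rfl : v ≫ U.π = c₀) ≫ U.ev
  have hw : (e ≫ φ₀.left) ≫ G.hom =
      (Spec.map (CommRingCat.ofHom (algebraMap B T₀.Alg)) ≫ Spec.map (CommRingCat.ofHom (algebraMap R B))) ≫ C.j := by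
    rw [Category.assoc, Over.w φ₀]
    show e ≫ pullback.snd (pS S) c₀.left ≫ Spec.map _ ≫ C.j = _
    rw [pullback.lift_snd_assoc, Category.assoc]
  let l := C.pb.lift (e ≫ φ₀.left) _ hw
  obtain ⟨a, ha⟩ : ∃ a : A →+* T₀.Alg, Spec.map (CommRingCat.ofHom a) = l :=
    ⟨(Spec.preimage l).hom, Spec.map_preimage l⟩
  have hla : Spec.map (CommRingCat.ofHom a) ≫ C.gA = e ≫ φ₀.left := by rw [ha]; exact C.pb.lift_fst _ _ _
  have haR : a.comp (algebraMap R A) = (algebraMap B T₀.Alg).comp (algebraMap R B) := by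
    have h1 := C.pb.lift_snd (e ≫ φ₀.left) _ hw
    rw [show C.pb.lift (e ≫ φ₀.left) _ hw = Spec.map (CommRingCat.ofHom a) from ha.symm, ← Spec.map_comp,
      ← Spec.map_comp, Spec.map_inj, ← CommRingCat.ofHom_comp, ← CommRingCat.ofHom_comp] at h1
    exact congrArg CommRingCat.Hom.hom h1
  letI : Algebra R T₀.Alg := ((algebraMap B T₀.Alg).comp (algebraMap R B)).toAlgebra
  haveI : IsScalarTower R B T₀.Alg := IsScalarTower.of_algebraMap_eq fun _ => rfl
  let a' : A →ₐ[R] T₀.Alg := { a with commutes' := fun r => RingHom.congr_fun haR r }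
  let P : Fam (d + 1) R A B :=
    ⟨T₀, Algebra.TensorProduct.lift (Algebra.ofId B T₀.Alg) a' fun _ _ => Commute.all _ _⟩
  refine ⟨P, rfl, ?_⟩
  have hcc : c₀ = C.c P := hcT P rfl
  have hζ : ζA P = a := RingHom.ext fun x => by
    show P.ζ ((1 : B) ⊗ₜ[R] x) = _
    simp only [P]
    rw [Algebra.TensorProduct.lift_tmul, map_one, one_mul]
    rfl
  have hzz : ∀ (c₁ : C.T B ⟶ cS S) (h₁ : v ≫ U.π = c₁) (e₁ : Spec (CommRingCat.of T₀.Alg) ⟶ (fam c₁).left),
      e₁ ≫ pullback.fst _ _ = z → e₁ ≫ pullback.snd (pS S) c₁.left = Spec.map (CommRingCat.ofHom (algebraMap B T₀.Alg)) →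
      e₁ ≫ (famMap v h₁ ≫ U.ev).left = e ≫ φ₀.left := fun c₁ h₁ e₁ h2 h3 => by
    subst h₁
    rw [show e₁ = e from pullback.hom_ext (h2.trans (pullback.lift_fst _ _ _).symm) (h3.trans (pullback.lift_snd _ _ _).symm)]
  refine Over.OverMorphism.ext ?_
  rw [← cancel_epi (C.iso P).hom, hzz _ (hcT P rfl) (C.iso P).hom ?_ (C.iso_snd P)]
  · show _ = (C.iso P).hom ≫ (C.iso P).inv ≫ Spec.map _ ≫ C.gA
    rw [Iso.hom_inv_id_assoc, hζ, hla]
  · refine (C.iso_fst P).trans (pullback.hom_ext ?_ ?_)
    · rw [zmap, pullback.lift_fst, pullback.lift_fst]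
      congr 4
    · rw [zmap, pullback.lift_snd, pullback.lift_snd]
      exact congrArg (fun w => Spec.map (CommRingCat.ofHom (algebraMap B T₀.Alg)) ≫ w.left) hcc.symm

end Chart

end Groth.Agent.Stk19b.FlatQuot
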