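import Groth.Agent.Stk19b.Quot.AlgStack
import Groth.Agent.Stk19b.Fppf.Main
import Groth.Agent.Stk19b.Fppf.Bootstrap
import Groth.Agent.Stk19b.Boot.Stack

/-! Representability of charts of a prestack is fppf local; `[X/G]` for flat `G`; free actions. -/

set_option autoImplicit false
set_option linter.style.haveILetI false
set_option backward.isDefEq.respectTransparency false
set_option backward.isDefEq.respectTransparency.types false

universe u

open CategoryTheory CategoryTheory.Limits AlgebraicGeometry MonoidalCategory CartesianMonoidalCategory MonObj GrpObj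
open Opposite FibCat Groth.Agent.Stk19 Groth.Agent.Stk19b.QuotTriv

namespace Groth.Agent.Stk19b.FlatQuot

variable {S : Scheme.{u}} {𝒳 𝒴 : AlgSt.Cat S}

/-- Surjective, flat, locally of finite presentation. -/
abbrev FppfP : MorphismProperty (AlgSp.Sp S) :=
  AlgSp.IsSurjectiveMor ⊓ AlgSp.LocP @Flat ⊓ AlgSp.LocP @LocallyOfFinitePresentation

theorem respSrc_fppfP : RespSrc (FppfP (S := S)) :=
  respSrc_of_baseChange ((pbStable_surjective.inf (pbStable_locP AlgSpLib.etLocal_flat)).inf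
    (pbStable_locP AlgSpLib.etLocal_lfp))

theorem with_fppf {u : 𝒳 ⥤ᵇ 𝒴} (hs : AlgSt.RepByAlgSpWith AlgSp.IsSurjectiveMor u)
    (hf : AlgSt.RepByAlgSpWith (AlgSp.LocP @Flat) u)
    (hl : AlgSt.RepByAlgSpWith (AlgSp.LocP @LocallyOfFinitePresentation) u) :
    AlgSt.RepByAlgSpWith FppfP u :=
  repByAlgSpWith_and (respSrc_of_baseChange (pbStable_locP AlgSpLib.etLocal_lfp))
    (repByAlgSpWith_and (respSrc_of_baseChange (pbStable_locP AlgSpLib.etLocal_flat)) hs hf) hl

/-- A stack in setoids with an fppf chart by an algebraic space is an algebraic space. -/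
theorem repByAlgSp_of_fppf_cover (h𝒳 : Stk.IsStack (AlgSp.J S) 𝒳) (hs : IsFibSetoid 𝒳.p) (X : AlgSp.Space S)
    (x : AlgSt.ofSp X.obj ⥤ᵇ 𝒳) (hx : AlgSt.RepByAlgSpWith FppfP x) : AlgSt.RepByAlgSp 𝒳 := by
  obtain ⟨P, E, hE⟩ := exists_psh_of_setoid hs
  have hP : Presheaf.IsSheaf (AlgSp.J S) P := (isSheaf_iff_isSheaf_of_type _ _).2
    ((isStack_ofPsh_iff _).1 ((isStack_iff_of_equiv _ hE).1 h𝒳))
  let F : AlgSp.Sp S := ⟨P, hP⟩
  let Φ : AlgSt.ofSp X.obj ⥤ᵇ AlgSt.ofSp F := BasedFunctor.comp x E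
  have hΦ : AlgSt.RepByAlgSpWith FppfP (AlgSt.ofSpMap (spHom Φ)) :=
    repByAlgSpWith_of_iso (spHom_iso Φ).some (with_comp_equiv hE hx)
  have hp : AlgSp.RepBySpWith FppfP (spHom Φ).hom := by
    intro W ξ F' fst snd sq
    obtain ⟨hF', hA⟩ := repBySp_of_repByAlgSp1 (spHom Φ).hom (repByAlgSp1_of_with hΦ) ξ fst snd sq
    obtain ⟨e, he, k⟩ := exists_psh_chart sq hF' (Iso.refl _)
    obtain ⟨T', e', he', hq⟩ := hΦ W _
    exact ⟨hF', hA, k ▸ repWith_any respSrc_fppfP he' hq (F' := ⟨⟨F', hF'⟩, hA⟩) e he⟩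
  exact repByAlgSp_of_equiv' (E := E) hE
    (repByAlgSp_ofSp ⟨F, Fppf.isAlgSpace_of_fppf_cover X.property (spHom Φ) hp⟩)

/-- A chart of a prestack is representable if it is so after an fppf surjection. -/
theorem repByAlgSp1_of_fppf (h𝒳 : Stk.IsPrestack (AlgSp.J S) 𝒳) {U U' : Over S} (c : U' ⟶ U) [Flat c.left]
    [LocallyOfFinitePresentation c.left] [Surjective c.left] (x : overCat U ⥤ᵇ 𝒳)
    (h : AlgSt.RepByAlgSp1 (BasedFunctor.comp (AlgSt.overMap c) x)) : AlgSt.RepByAlgSp1 x := by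
  intro V y
  haveI := faithful_overCat x
  have hs : IsFibSetoid (fp y x).p := setoid_fp _ _ (setoid_of_repByAlgSp (repByAlgSp_overCat V))
    (isFibGrpd_overCat U) h𝒳.1
  have hN : Stk.IsStack (AlgSp.J S) (fp y x) := isStack_fp _ _ _ (isStack_overCat V) (isStack_overCat U) h𝒳
  let j : fp (fpSnd y x) (AlgSt.overMap c) ⥤ᵇ fp y x := fpFst _ _
  obtain ⟨T, eT, heT⟩ := repByAlgSp_of_equiv' (isEquivOver_fpCompFactor y (AlgSt.overMap c) x) (h V y)
  have hsur : AlgSt.RepByAlgSpWith AlgSp.IsSurjectiveMor (AlgSt.overMap c) :=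
    (repByAlgSpWith_iff_of_square (f' := AlgSt.overMap c) (f := AlgSt.ofSpMap ((AlgSp.yon S).map c))
      (a := AlgSt.ofOverCat U') (b := AlgSt.ofOverCat U) (isEquivOver_ofOverCat U') (isEquivOver_ofOverCat U)
      (eqToIso (ofOver_overMap c))).2
      (repByAlgSpWith_ofSpMap pbStable_surjective (V := ⟨_, AlgSp.IsAlgSpace.yon_obj U'⟩)
        (Z := ⟨_, AlgSp.IsAlgSpace.yon_obj U⟩) _ (surjective_yon ‹Surjective c.left›.surj))
  have hc := with_fppf hsur (with_overMap AlgSpLib.etLocal_flat c inferInstance)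
    (with_overMap AlgSpLib.etLocal_lfp c inferInstance)
  exact repByAlgSp_of_fppf_cover hN hs T (BasedFunctor.comp eT j)
    (with_equiv_comp heT (repByAlgSpWith_fpFst _ hc))

/-- The diagonal of a prestack whose charts are fppf locally representable. -/
theorem repByAlgSp1_diag_of_fppf (h𝒳 : Stk.IsPrestack (AlgSp.J S) 𝒳)
    (h : ∀ (U : Over S) (x : overCat U ⥤ᵇ 𝒳), ∃ (U' : Over S) (c : U' ⟶ U), Flat c.left ∧
      LocallyOfFinitePresentation c.left ∧ Surjective c.left ∧
      AlgSt.RepByAlgSp1 (BasedFunctor.comp (AlgSt.overMap c) x)) :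
    AlgSt.RepByAlgSp1 (FibCat.diag (toSelf 𝒳)) :=
  (repByAlgSp1_diag_iff h𝒳.1).2 fun U x => by
    obtain ⟨U', c, _, _, _, hc⟩ := h U x
    exact repByAlgSp1_of_fppf h𝒳 c x hc

variable {G X : Over S} [GrpObj G] (aX : AlgGrp.Action G X)

theorem stable_fppf : Scheme.fppfPrecoverage.{u}.IsStableUnderBaseChange :=
  inferInstanceAs (Scheme.precoverage (@Flat ⊓ @LocallyOfFinitePresentation)).IsStableUnderBaseChange

theorem repByAlgSp1_diag [Flat G.hom] [LocallyOfFinitePresentation G.hom] :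
    AlgSt.RepByAlgSp1 (FibCat.diag (FibCat.toSelf (AlgSt.QuotSt Scheme.fppfPrecoverage G aX))) := by
  haveI := Quot.hasIsos_fppf.{u}
  haveI := stable_fppf.{u}
  refine repByAlgSp1_diag_of_fppf (Quot.isPrestack_fppf G aX _) fun U x => ?_
  obtain ⟨c, E, hE, hfst, eA, hc⟩ := Quot.exists_fibre x
  haveI : IsIso (eqToHom eA).left := inferInstanceAs (IsIso ((Over.forget S).map (eqToHom eA)))
  have hK : Scheme.fppfPrecoverage.{u} ≤ Scheme.fpqcPrecoverage := Scheme.fppfPrecoverage_le_fpqcPrecoverage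
  let A := x.obj (Over.mk (𝟙 U))
  have hcl : c.left = A.π.left ≫ (eqToHom eA).left := by rw [hc, Over.comp_left]
  haveI : Flat A.π.left := Quot.π_prop hK @Flat AlgSpLib.descends_flat inferInstance A
  haveI : LocallyOfFinitePresentation A.π.left :=
    Quot.π_prop hK @LocallyOfFinitePresentation inferInstance inferInstance A
  haveI : Surjective A.π.left := Quot.π_prop hK @Surjective inferInstance Quot.surjective_hom A
  refine ⟨_, c, hcl ▸ inferInstance, hcl ▸ inferInstance, hcl ▸ inferInstance, ?_⟩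
  let at₀ := Quot.atlas G Scheme.fppfPrecoverage aX
  have j : BasedFunctor.comp (BasedFunctor.comp E (FibCat.fpSnd x at₀)) at₀ ≅
      BasedFunctor.comp (AlgSt.overMap c) x :=
    ((Stk.restr E _).mapIso (FibCat.fpIso x at₀).symm :
      BasedFunctor.comp (BasedFunctor.comp E (FibCat.fpSnd x at₀)) at₀ ≅
        BasedFunctor.comp (BasedFunctor.comp E (FibCat.fpFst x at₀)) x) ≪≫
      eqToIso (show BasedFunctor.comp (BasedFunctor.comp E (FibCat.fpFst x at₀)) x =
        BasedFunctor.comp (AlgSt.overMap c) x by rw [hfst])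
  exact repByAlgSp1_of_iso j (repByAlgSp1_comp (isFibGrpd_overCat _) (isFibGrpd_overCat X)
    (repByAlgSp1_of_repByAlgSp _ (repByAlgSp_overCat _) (repByAlgSp_overCat X))
    (repByAlgSp1_of_with (Quot.rep_surjective hK)))

theorem rep_fppf_atlas [Flat G.hom] [LocallyOfFinitePresentation G.hom] :
    haveI := Quot.hasIsos_fppf.{u}
    AlgSt.RepByAlgSpWith FppfP (Quot.atlas G Scheme.fppfPrecoverage aX) := by
  haveI := Quot.hasIsos_fppf.{u}
  haveI := stable_fppf.{u}
  exact with_fppf (Quot.rep_surjective Scheme.fppfPrecoverage_le_fpqcPrecoverage)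
    (Quot.rep_flat Scheme.fppfPrecoverage_le_fpqcPrecoverage)
    (Quot.rep_lfp Scheme.fppfPrecoverage_le_fpqcPrecoverage)

/-- The quotient category of a free action is fibred in setoids. -/
theorem isFibSetoid_of_free {K : Precoverage Scheme.{u}} [K.IsStableUnderBaseChange]
    (hfree : ∀ (T : Over S) (g : T ⟶ G) (x : T ⟶ X), smulPt aX g x = x → g = 1) :
    IsFibSetoid (AlgSt.QuotSt K G aX).p := by
  refine ⟨Quot.isFibGrpd G K aX, fun U => (thin_fiber_iff (Quot.isFibGrpd G K aX) U).2 fun A φ _ hφ => ?_⟩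
  have hb : φ.base = 𝟙 A.base := hφ
  have hπ : φ.top ≫ A.π = 𝟙 A.P ≫ A.π := by rw [φ.cart.w, hb, Category.comp_id, Category.id_comp]
  obtain ⟨g, hg, -⟩ := existsUnique_smul A (𝟙 A.P) φ.top hπ
  have h1 : g = 1 := hfree _ g A.φ (by
    have := congrArg (· ≫ A.φ) hg
    simp only [comp_φ, φ.wφ, Category.id_comp] at this
    exact this)
  exact AlgSt.QuotObj.hom_ext hb (by rw [← hg, h1, smulPt_one]; rfl)

/-- The quotient of a free action of an affine flat group is an algebraic space. -/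
theorem repByAlgSp_of_free [Flat G.hom] [LocallyOfFinitePresentation G.hom] [IsAffineHom G.hom]
    (hfree : ∀ (T : Over S) (g : T ⟶ G) (x : T ⟶ X), smulPt aX g x = x → g = 1) :
    AlgSt.RepByAlgSp (AlgSt.QuotSt Scheme.fppfPrecoverage G aX) := by
  haveI := Quot.hasIsos_fppf.{u}
  haveI := stable_fppf.{u}
  exact repByAlgSp_of_fppf_cover (Quot.isStack_fppf aX) (isFibSetoid_of_free aX hfree)
    ⟨_, AlgSp.IsAlgSpace.yon_obj X⟩ (BasedFunctor.comp (AlgSt.toOverCat X) (Quot.atlas G _ aX))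
    (with_equiv_comp (isEquivOver_toOverCat X) (rep_fppf_atlas aX))

end Groth.Agent.Stk19b.FlatQuot
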