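import Mathlib.Algebra.MvPolynomial.Eval
import Mathlib.LinearAlgebra.FreeModule.Basic
import Mathlib.LinearAlgebra.StdBasis
import Mathlib.RingTheory.IsTensorProduct
import Mathlib.RingTheory.Ideal.Quotient.Operations
import Mathlib.RingTheory.Finiteness.Basic
import Mathlib.LinearAlgebra.FreeModule.Finite.Basic
import Mathlib.LinearAlgebra.TensorProduct.Basis

/-! Multiplication tables: finite free commutative algebras with a basis, and the universal one. -/

set_option autoImplicit false

universe u v

open TensorProduct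

namespace Groth.Agent.Stk19b.FlatQuot

/-- A multiplication table of a commutative algebra with basis indexed by `Fin d`. -/
structure Tab (d : ℕ) (B : Type u) [CommRing B] where
  m : Fin d → Fin d → Fin d → B
  e : Fin d → B
  comm : ∀ i j, m i j = m j i
  assoc : ∀ i j k n, ∑ l, m i j l * m l k n = ∑ l, m j k l * m i l n
  unit : ∀ j n, ∑ i, e i * m i j n = if j = n then 1 else 0

namespace Tab

variable {d : ℕ} {B : Type u} [CommRing B]

theorem ext' {T T' : Tab d B} (hm : T.m = T'.m) (he : T.e = T'.e) : T = T' := by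
  cases T; cases T'; cases hm; cases he; rfl

/-- The algebra of a table. -/
def Alg (_ : Tab d B) : Type u := Fin d → B

variable (T : Tab d B)

instance : AddCommGroup T.Alg := inferInstanceAs (AddCommGroup (Fin d → B))

instance : Module B T.Alg := inferInstanceAs (Module B (Fin d → B))

/-- The multiplication. -/
def mul (x y : Fin d → B) : Fin d → B := fun n => ∑ i, ∑ j, x i * y j * T.m i j n

theorem mul_comm' (x y : Fin d → B) : T.mul x y = T.mul y x := by
  funext n
  simp only [mul]
  rw [Finset.sum_comm]
  exact Finset.sum_congr rfl fun i _ => Finset.sum_congr rfl fun j _ => by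
    rw [T.comm j i]; ring

theorem mul_assoc' (x y z : Fin d → B) : T.mul (T.mul x y) z = T.mul x (T.mul y z) := by
  funext n
  simp only [mul, Finset.sum_mul, Finset.mul_sum]
  calc ∑ l, ∑ k, ∑ i, ∑ j, x i * y j * T.m i j l * z k * T.m l k n
      = ∑ i, ∑ j, ∑ k, x i * y j * z k * ∑ l, T.m i j l * T.m l k n := by
        simp only [Finset.mul_sum]
        rw [Finset.sum_comm]
        conv_lhs => enter [2, k]; rw [Finset.sum_comm]
        rw [Finset.sum_comm]
        refine Finset.sum_congr rfl fun i _ => ?_
        conv_lhs => enter [2, k]; rw [Finset.sum_comm]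
        rw [Finset.sum_comm]
        exact Finset.sum_congr rfl fun j _ => Finset.sum_congr rfl fun k _ =>
          Finset.sum_congr rfl fun l _ => by ring
    _ = ∑ i, ∑ j, ∑ k, x i * y j * z k * ∑ l, T.m j k l * T.m i l n := by
        simp only [T.assoc]
    _ = ∑ i, ∑ l, ∑ j, ∑ k, x i * (y j * z k * T.m j k l) * T.m i l n := by
        simp only [Finset.mul_sum]
        refine Finset.sum_congr rfl fun i _ => ?_
        conv_lhs => enter [2, j]; rw [Finset.sum_comm]
        rw [Finset.sum_comm]
        exact Finset.sum_congr rfl fun l _ => Finset.sum_congr rfl fun j _ =>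
          Finset.sum_congr rfl fun k _ => by ring

theorem one_mul' (x : Fin d → B) : T.mul T.e x = x := by
  funext n
  simp only [mul]
  rw [Finset.sum_comm]
  calc ∑ j, ∑ i, T.e i * x j * T.m i j n = ∑ j, x j * ∑ i, T.e i * T.m i j n := by
        simp only [Finset.mul_sum]
        exact Finset.sum_congr rfl fun j _ => Finset.sum_congr rfl fun i _ => by ring
    _ = x n := by simp [T.unit]

theorem mul_add' (x y z : Fin d → B) : T.mul x (y + z) = T.mul x y + T.mul x z := by
  funext n
  simp only [mul, Pi.add_apply, add_mul, mul_add, Finset.sum_add_distrib]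

theorem zero_mul' (x : Fin d → B) : T.mul 0 x = 0 := by
  funext n
  simp [mul]

instance : CommRing T.Alg where
  __ := (inferInstance : AddCommGroup T.Alg)
  mul x y := T.mul x y
  mul_assoc := T.mul_assoc'
  one := T.e
  one_mul := T.one_mul'
  mul_one x := (T.mul_comm' x T.e).trans (T.one_mul' x)
  left_distrib := T.mul_add'
  right_distrib x y z := (T.mul_comm' _ z).trans ((T.mul_add' z x y).trans (congrArg₂ (fun a b : Fin d → B => a + b)
    (T.mul_comm' z x) (T.mul_comm' z y)))
  zero_mul := T.zero_mul'
  mul_zero x := (T.mul_comm' x 0).trans (T.zero_mul' x)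
  mul_comm := T.mul_comm'

theorem smul_mul' (c : B) (x y : T.Alg) : (c • x) * y = c • (x * y) := by
  funext n
  show T.mul (fun i => c * x i) y n = c * T.mul x y n
  simp only [mul, Finset.mul_sum]
  exact Finset.sum_congr rfl fun i _ => Finset.sum_congr rfl fun j _ => by ring

instance : Algebra B T.Alg :=
  Algebra.ofModule (fun c x y => T.smul_mul' c x y) fun c x y => by rw [mul_comm, T.smul_mul', mul_comm]

/-- The tautological basis. -/
noncomputable def basis : Module.Basis (Fin d) B T.Alg := Pi.basisFun B (Fin d)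

instance : Module.Free B T.Alg := Module.Free.of_basis T.basis

instance : Module.Finite B T.Alg := Module.Finite.of_basis T.basis

theorem basis_apply (i : Fin d) : (T.basis i : Fin d → B) = Pi.single i 1 := by
  exact Pi.basisFun_apply B (Fin d) i

theorem basis_mul (i j : Fin d) : T.basis i * T.basis j = ∑ n, T.m i j n • T.basis n := by
  have h1 : T.basis i * T.basis j = (T.m i j : Fin d → B) := by
    funext n
    show T.mul (T.basis i) (T.basis j) n = _
    simp only [mul, basis_apply]
    rw [Finset.sum_eq_single i (fun b _ hb => by simp [hb]) (fun h => (h (Finset.mem_univ i)).elim),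
      Finset.sum_eq_single j (fun b _ hb => by simp [hb]) (fun h => (h (Finset.mem_univ j)).elim)]
    simp
  rw [h1]
  exact (T.basis.sum_repr (T.m i j)).symm

theorem one_eq_sum : (1 : T.Alg) = ∑ i, T.e i • T.basis i := (T.basis.sum_repr T.e).symm

variable {B' : Type v} [CommRing B'] (θ : B →+* B')

/-- Base change of a table. -/
def map : Tab d B' where
  m i j n := θ (T.m i j n)
  e i := θ (T.e i)
  comm i j := by rw [T.comm i j]
  assoc i j k n := by
    simp only [← map_mul, ← map_sum, T.assoc]
  unit j n := by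
    simp only [← map_mul, ← map_sum, T.unit]
    split_ifs <;> simp

/-- The map of algebras over a base change. -/
def mapHom : T.Alg →+* (T.map θ).Alg where
  toFun x := fun i => θ (x i)
  map_one' := rfl
  map_mul' x y := by
    funext n
    show θ (T.mul x y n) = (T.map θ).mul (fun i => θ (x i)) (fun i => θ (y i)) n
    simp [mul, map]
  map_zero' := funext fun i => map_zero θ
  map_add' x y := funext fun i => map_add θ (x i) (y i)

theorem mapHom_algebraMap (c : B) : T.mapHom θ (algebraMap B T.Alg c) = algebraMap B' (T.map θ).Alg (θ c) := by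
  rw [Algebra.algebraMap_eq_smul_one, Algebra.algebraMap_eq_smul_one]
  funext i
  show θ (c * T.e i) = θ c * θ (T.e i)
  rw [map_mul]

theorem mapHom_surjective (hθ : Function.Surjective θ) : Function.Surjective (T.mapHom θ) := fun y =>
  ⟨fun i => (hθ (y i)).choose, funext fun i => (hθ (y i)).choose_spec⟩

end Tab

section ofBasis

variable {d : ℕ} {B : Type u} [CommRing B] {C : Type v} [CommRing C] [Algebra B C] (b : Module.Basis (Fin d) B C)

theorem sum_repr_mul (x y : C) (n : Fin d) :
    b.repr (x * y) n = ∑ i, ∑ j, b.repr x i * b.repr y j * b.repr (b i * b j) n := by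
  conv_lhs => rw [← b.sum_repr x, ← b.sum_repr y, Finset.sum_mul_sum]
  simp only [smul_mul_smul_comm, map_sum, map_smul, Finsupp.coe_finset_sum, Finset.sum_apply, Finsupp.smul_apply,
    smul_eq_mul]

/-- The table of a basis. -/
noncomputable def Tab.ofBasis : Tab d B where
  m i j n := b.repr (b i * b j) n
  e i := b.repr 1 i
  comm i j := by rw [mul_comm]
  assoc i j k n := by
    have h : b.repr ((b i * b j) * b k) n = b.repr (b i * (b j * b k)) n := by rw [mul_assoc]
    rw [sum_repr_mul b (b i * b j) (b k) n, sum_repr_mul b (b i) (b j * b k) n] at h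
    simpa [Finsupp.single_apply, Finset.sum_ite_eq, Finset.sum_ite_eq'] using h
  unit j n := by
    have h : b.repr ((1 : C) * b j) n = b.repr (b j) n := by rw [one_mul]
    rw [sum_repr_mul b 1 (b j) n] at h
    simpa [Finsupp.single_apply, Finset.sum_ite_eq, Finset.sum_ite_eq'] using h

/-- The algebra of the table of a basis. -/
noncomputable def Tab.ofBasisEquiv : (Tab.ofBasis b).Alg ≃ₐ[B] C :=
  AlgEquiv.ofLinearEquiv (show (Fin d → B) ≃ₗ[B] C from b.equivFun.symm)
    (by
      show b.equivFun.symm (fun i => b.repr 1 i) = 1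
      simp [Module.Basis.equivFun_symm_apply, b.sum_repr])
    (fun x y => by
      show b.equivFun.symm ((Tab.ofBasis b).mul x y) = b.equivFun.symm x * b.equivFun.symm y
      apply b.equivFun.injective
      rw [LinearEquiv.apply_symm_apply]
      funext n
      have key : ∀ (z : Fin d → B) (i : Fin d), b.repr (b.equivFun.symm z) i = z i := fun z i =>
        congrFun (b.equivFun.apply_symm_apply z) i
      rw [Module.Basis.equivFun_apply, sum_repr_mul]
      simp only [key]
      rfl)

theorem Tab.ofBasisEquiv_basis (i : Fin d) : Tab.ofBasisEquiv b ((Tab.ofBasis b).basis i) = b i := by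
  show b.equivFun.symm (((Tab.ofBasis b).basis i : Fin d → B)) = b i
  rw [Tab.basis_apply]
  simp [Module.Basis.equivFun_symm_apply, Pi.single_apply]

end ofBasis

section univ

variable (d : ℕ)

/-- The variables. -/
abbrev TabVar : Type := (Fin d × Fin d × Fin d) ⊕ Fin d

/-- The relations. -/
noncomputable def tabIdeal : Ideal (MvPolynomial (TabVar d) ℤ) :=
  let m : Fin d → Fin d → Fin d → MvPolynomial (TabVar d) ℤ := fun i j k => MvPolynomial.X (Sum.inl (i, j, k))
  let e : Fin d → MvPolynomial (TabVar d) ℤ := fun i => MvPolynomial.X (Sum.inr i)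
  Ideal.span ((Set.range fun p : Fin d × Fin d × Fin d => m p.1 p.2.1 p.2.2 - m p.2.1 p.1 p.2.2) ∪
    (Set.range fun p : Fin d × Fin d × Fin d × Fin d =>
      ∑ l, m p.1 p.2.1 l * m l p.2.2.1 p.2.2.2 - ∑ l, m p.2.1 p.2.2.1 l * m p.1 l p.2.2.2) ∪
    (Set.range fun p : Fin d × Fin d => ∑ i, e i * m i p.1 p.2 - if p.1 = p.2 then 1 else 0))

/-- The ring of tables. -/
abbrev TabRing : Type := MvPolynomial (TabVar d) ℤ ⧸ tabIdeal d

/-- The universal table. -/
noncomputable def univTab : Tab d (TabRing d) where
  m i j k := Ideal.Quotient.mk _ (MvPolynomial.X (Sum.inl (i, j, k)))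
  e i := Ideal.Quotient.mk _ (MvPolynomial.X (Sum.inr i))
  comm i j := by
    funext k
    exact Ideal.Quotient.eq.2 (Ideal.subset_span (Or.inl (Or.inl ⟨(i, j, k), rfl⟩)))
  assoc i j k n := by
    simp only [← map_mul, ← map_sum]
    exact Ideal.Quotient.eq.2 (Ideal.subset_span (Or.inl (Or.inr ⟨(i, j, k, n), rfl⟩)))
  unit j n := by
    simp only [← map_mul, ← map_sum]
    refine Eq.trans (b := Ideal.Quotient.mk (tabIdeal d) (if j = n then 1 else 0))
      (Ideal.Quotient.eq.2 (Ideal.subset_span (Or.inr ⟨(j, n), rfl⟩))) ?_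
    split_ifs <;> simp

/-- Every table is a base change of the universal one. -/
theorem exists_classify {B : Type u} [CommRing B] (T : Tab d B) :
    ∃ θ : TabRing d →+* B, (univTab d).map θ = T := by
  let v : TabVar d → B := Sum.elim (fun p => T.m p.1 p.2.1 p.2.2) T.e
  let φ := MvPolynomial.eval₂Hom (Int.castRingHom B) v
  have h : ∀ a ∈ tabIdeal d, φ a = 0 := by
    intro a ha
    refine (Ideal.span_le (I := RingHom.ker φ)).2 ?_ ha
    rintro _ ((⟨p, rfl⟩ | ⟨p, rfl⟩) | ⟨p, rfl⟩) <;> rw [SetLike.mem_coe, RingHom.mem_ker]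
    · simp only [map_sub, φ, v, MvPolynomial.eval₂Hom_X', Sum.elim_inl, T.comm p.1 p.2.1, sub_self]
    · simp only [map_sub, map_sum, map_mul, φ, v, MvPolynomial.eval₂Hom_X', Sum.elim_inl, T.assoc, sub_self]
    · simp only [map_sub, map_sum, map_mul, φ, v, MvPolynomial.eval₂Hom_X', Sum.elim_inl, Sum.elim_inr, T.unit]
      split_ifs <;> simp
  refine ⟨Ideal.Quotient.lift _ φ h, Tab.ext' (funext fun i => funext fun j => funext fun k => ?_) (funext fun i => ?_)⟩
  · simp [Tab.map, univTab, φ, v]
  · simp [Tab.map, univTab, φ, v]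

theorem map_pushout {B : Type u} [CommRing B] {B' : Type u} [CommRing B'] {d : ℕ} (T : Tab d B) (θ : B →+* B') :
    letI := θ.toAlgebra
    letI := (T.mapHom θ).toAlgebra
    letI := ((algebraMap B' (T.map θ).Alg).comp θ).toAlgebra
    haveI : IsScalarTower B B' (T.map θ).Alg := IsScalarTower.of_algebraMap_eq fun _ => rfl
    haveI : IsScalarTower B T.Alg (T.map θ).Alg :=
      IsScalarTower.of_algebraMap_eq fun c => (T.mapHom_algebraMap θ c).symm
    Algebra.IsPushout B B' T.Alg (T.map θ).Alg := by
  letI := θ.toAlgebra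
  letI := (T.mapHom θ).toAlgebra
  letI := ((algebraMap B' (T.map θ).Alg).comp θ).toAlgebra
  haveI : IsScalarTower B B' (T.map θ).Alg := IsScalarTower.of_algebraMap_eq fun _ => rfl
  haveI : IsScalarTower B T.Alg (T.map θ).Alg :=
    IsScalarTower.of_algebraMap_eq fun c => (T.mapHom_algebraMap θ c).symm
  refine ⟨IsBaseChange.of_equiv ((T.basis.baseChange B').equiv (T.map θ).basis (Equiv.refl _)) fun x => ?_⟩
  let L : B' ⊗[B] T.Alg →ₗ[B'] (T.map θ).Alg :=
    ((T.basis.baseChange B').equiv (T.map θ).basis (Equiv.refl _)).toLinearMap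
  let L₁ : T.Alg →ₗ[B] (T.map θ).Alg :=
    (L.restrictScalars B).comp ((TensorProduct.mk B B' T.Alg) 1)
  show L₁ x = (IsScalarTower.toAlgHom B T.Alg (T.map θ).Alg).toLinearMap x
  refine LinearMap.congr_fun (T.basis.ext fun i => ?_) x
  show L (1 ⊗ₜ T.basis i) = T.mapHom θ (T.basis i)
  rw [← Module.Basis.baseChange_apply]
  refine (Module.Basis.equiv_apply _ _ _ _).trans ?_
  funext n
  show ((T.map θ).basis i : Fin d → B') n = θ ((T.basis i : Fin d → B) n)
  rw [Tab.basis_apply, Tab.basis_apply, Pi.single_apply, Pi.single_apply]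
  split_ifs <;> simp

end univ

end Groth.Agent.Stk19b.FlatQuot
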