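import Groth.Agent.Stk19b.FlatQuot.Table
import Groth.Agent.Stk19b.QuotTriv
import Groth.Agent.SGA3cLib.HomScheme
import Mathlib.AlgebraicGeometry.Sites.Fpqc
import Mathlib.RingTheory.Finiteness.ModuleFinitePresentation
import Mathlib.RingTheory.Flat.FaithfullyFlat.Algebra

/-! The scheme of maps of finite free schemes with a framing into a scheme affine over the base. -/

set_option autoImplicit false
set_option linter.style.haveILetI false
set_option backward.isDefEq.respectTransparency false
set_option backward.isDefEq.respectTransparency.types false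

universe u

open CategoryTheory CategoryTheory.Limits AlgebraicGeometry MonoidalCategory CartesianMonoidalCategory MonObj GrpObj
open Groth.Agent.Stk19b.QuotTriv

noncomputable section

namespace Groth.Agent.Stk19b.FlatQuot

/-- The ring of tables of rank `d + 1`, in the universe of schemes. -/
abbrev UR (d : ℕ) : Type u := ULift.{u} (TabRing (d + 1))

/-- The universal table of rank `d + 1`. -/
def uTab (d : ℕ) : Tab (d + 1) (UR.{u} d) := (univTab (d + 1)).map ULift.ringEquiv.{0, u}.symm.toRingHom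

theorem exists_classify' {d : ℕ} {B : Type u} [CommRing B] (T : Tab (d + 1) B) :
    ∃ θ : UR.{u} d →+* B, (uTab d).map θ = T := by
  obtain ⟨θ, hθ⟩ := exists_classify (d + 1) T
  exact ⟨θ.comp ULift.ringEquiv.{0, u}.toRingHom, (Tab.ext' (T' := (univTab (d + 1)).map θ) rfl rfl).trans hθ⟩

/-- The pieces of the scheme of tables. -/
abbrev cPiece (i : ULift.{u} ℕ) : Scheme.{u} := Spec (CommRingCat.of (UR.{u} i.down))

/-- The pieces of the universal finite scheme. -/
abbrev zPiece (i : ULift.{u} ℕ) : Scheme.{u} := Spec (CommRingCat.of (uTab.{u} i.down).Alg)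

/-- The piece of the structure map. -/
abbrev pPiece (i : ULift.{u} ℕ) : zPiece.{u} i ⟶ cPiece.{u} i :=
  Spec.map (CommRingCat.ofHom (algebraMap (UR.{u} i.down) (uTab.{u} i.down).Alg))

/-- The universal finite free scheme of positive rank. -/
abbrev pUniv : (∐ zPiece.{u}) ⟶ (∐ cPiece.{u}) := Limits.Sigma.map pPiece.{u}

theorem isPullback_sigmaMap {σ : Type u} {X Y : σ → Scheme.{u}} (f : ∀ i, X i ⟶ Y i) (i : σ) :
    IsPullback (f i) (Sigma.ι X i) (Sigma.ι Y i) (Limits.Sigma.map f) := by
  refine IsOpenImmersion.isPullback _ _ _ _ (by simp) ?_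
  apply le_antisymm
  · intro z hz
    obtain ⟨⟨j, w⟩, rfl⟩ := (sigmaMk X).surjective z
    rw [sigmaMk_mk] at hz ⊢
    have hz' : (Limits.Sigma.map f) (Sigma.ι X j w) ∈ Set.range (Sigma.ι Y i) := hz
    obtain ⟨x, hx⟩ := hz'
    rw [← Scheme.Hom.comp_apply, Sigma.ι_map, Scheme.Hom.comp_apply] at hx
    obtain ⟨rfl, -⟩ := Sigma.mk.inj_iff.1 ((sigmaι_eq_iff Y _ _ _ _).1 hx)
    exact ⟨w, rfl⟩
  · rintro _ ⟨w, rfl⟩
    exact ⟨f i w, by rw [← Scheme.Hom.comp_apply, ← Scheme.Hom.comp_apply, Sigma.ι_map]⟩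

theorem univ_local (P : MorphismProperty Scheme.{u}) [IsZariskiLocalAtTarget P] (h : ∀ i, P (pPiece.{u} i)) :
    P pUniv.{u} := by
  refine (IsZariskiLocalAtTarget.iff_of_openCover (P := P) (sigmaOpenCover cPiece.{u})).2 fun i => ?_
  show P (pullback.snd pUniv.{u} (Sigma.ι cPiece.{u} i))
  rw [← (isPullback_sigmaMap pPiece.{u} i).flip.isoPullback_inv_snd]
  exact (P.cancel_left_of_respectsIso _ _).2 (h i)

theorem isFinite_pUniv : IsFinite pUniv.{u} :=
  univ_local @IsFinite fun i => (IsFinite.SpecMap_iff _).2 (RingHom.finite_algebraMap.2 inferInstance)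

theorem flat_pUniv : Flat pUniv.{u} :=
  univ_local @Flat fun i =>
    (HasRingHomProperty.Spec_iff (P := @Flat)).2 (RingHom.flat_algebraMap_iff.2 inferInstance)

theorem lfp_pUniv : LocallyOfFinitePresentation pUniv.{u} :=
  univ_local @LocallyOfFinitePresentation fun i => by
    haveI : Module.FinitePresentation (UR.{u} i.down) (uTab.{u} i.down).Alg :=
      Module.finitePresentation_of_projective _ _
    exact (HasRingHomProperty.Spec_iff (P := @LocallyOfFinitePresentation)).2
      (RingHom.finitePresentation_algebraMap.2 inferInstance)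

theorem surjective_pUniv : Surjective pUniv.{u} :=
  univ_local @Surjective fun i => by
    rcases subsingleton_or_nontrivial (UR.{u} i.down) with h | h
    · exact ⟨fun x => absurd x.isPrime.ne_top (not_not.2 (Subsingleton.elim _ _))⟩
    · haveI : Nontrivial (uTab.{u} i.down).Alg := inferInstanceAs (Nontrivial (Fin (i.down + 1) → UR.{u} i.down))
      exact ⟨PrimeSpectrum.comap_surjective_of_faithfullyFlat⟩

variable {S : Scheme.{u}}

/-- The scheme of tables over the base. -/
abbrev cS (S : Scheme.{u}) : Over S := Over.mk (prod.fst : S ⨯ (∐ cPiece.{u}) ⟶ S)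

/-- The universal finite scheme over the tables over the base. -/
abbrev zS (S : Scheme.{u}) : Scheme.{u} := pullback pUniv.{u} (prod.snd : S ⨯ (∐ cPiece.{u}) ⟶ ∐ cPiece.{u})

/-- Its structure map. -/
abbrev pS (S : Scheme.{u}) : zS S ⟶ (cS S).left := pullback.snd _ _

/-- The finite scheme over `T` pulled back along `c`. -/
abbrev fam {T : Over S} (c : T ⟶ cS S) : Over S := Over.mk (pullback.snd (pS S) c.left ≫ T.hom)

/-- Its projection. -/
abbrev famπ {T : Over S} (c : T ⟶ cS S) : fam c ⟶ T := Over.homMk (pullback.snd (pS S) c.left)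

/-- The map of finite schemes over a map of bases. -/
def famMap {T T' : Over S} {c : T ⟶ cS S} {c' : T' ⟶ cS S} (v : T ⟶ T') (h : v ≫ c' = c) : fam c ⟶ fam c' :=
  Over.homMk (pullback.lift (pullback.fst _ _) (pullback.snd _ _ ≫ v.left) (by
    exact pullback.condition.trans ((congrArg (pullback.snd _ _ ≫ ·) (congrArg CommaMorphism.left h.symm)).trans
      (Category.assoc _ _ _).symm))) (by
      show _ ≫ pullback.snd _ _ ≫ T'.hom = pullback.snd _ _ ≫ T.hom
      rw [pullback.lift_snd_assoc, Category.assoc, Over.w v])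

theorem famMap_π {T T' : Over S} {c : T ⟶ cS S} {c' : T' ⟶ cS S} (v : T ⟶ T') (h : v ≫ c' = c) :
    famMap v h ≫ famπ c' = famπ c ≫ v :=
  Over.OverMorphism.ext (pullback.lift_snd _ _ _)

theorem famMap_comp {T T' T'' : Over S} {c : T ⟶ cS S} {c' : T' ⟶ cS S} {c'' : T'' ⟶ cS S} (v : T ⟶ T')
    (h : v ≫ c' = c) (w : T' ⟶ T'') (h' : w ≫ c'' = c') :
    famMap v h ≫ famMap w h' = famMap (v ≫ w) (by rw [Category.assoc, h', h]) :=
  Over.OverMorphism.ext (by apply pullback.hom_ext <;> simp [famMap])

theorem famMap_congr {T T' : Over S} {c : T ⟶ cS S} {c' : T' ⟶ cS S} {v w : T ⟶ T'} (e : v = w)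
    (h : v ≫ c' = c) (h' : w ≫ c' = c) : famMap v h = famMap w h' := by
  subst e; rfl

theorem epi_famπ {T : Over S} (c : T ⟶ cS S) : Epi (famπ c) := by
  haveI : Flat pUniv.{u} := flat_pUniv
  haveI : LocallyOfFinitePresentation pUniv.{u} := lfp_pUniv
  haveI : Surjective pUniv.{u} := surjective_pUniv
  haveI : Flat (pS S) := MorphismProperty.pullback_snd (P := @Flat) _ _ inferInstance
  haveI : LocallyOfFinitePresentation (pS S) :=
    MorphismProperty.pullback_snd (P := @LocallyOfFinitePresentation) _ _ inferInstance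
  haveI : Surjective (pS S) := MorphismProperty.pullback_snd (P := @Surjective) _ _ inferInstance
  haveI : Flat (famπ c).left := MorphismProperty.pullback_snd (P := @Flat) _ _ inferInstance
  haveI : LocallyOfFinitePresentation (famπ c).left :=
    MorphismProperty.pullback_snd (P := @LocallyOfFinitePresentation) _ _ inferInstance
  haveI : Surjective (famπ c).left := MorphismProperty.pullback_snd (P := @Surjective) _ _ inferInstance
  exact ⟨fun a b h => Over.OverMorphism.ext ((cancel_epi (famπ c).left).1 (congrArg CommaMorphism.left h))⟩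

/-- A scheme representing framed maps into `G`. -/
structure Univ (G : Over S) where
  M : Over S
  π : M ⟶ cS S
  ev : fam π ⟶ G
  lfp : LocallyOfFinitePresentation G.hom → LocallyOfFinitePresentation π.left
  univ : ∀ {T : Over S} (c : T ⟶ cS S) (φ : fam c ⟶ G), ∃! v : T ⟶ M, ∃ h : v ≫ π = c, famMap v h ≫ ev = φ

theorem exists_univ (G : Over S) [IsAffineHom G.hom] : Nonempty (Univ G) := by
  haveI : IsFinite pUniv.{u} := isFinite_pUniv
  haveI : Flat pUniv.{u} := flat_pUniv
  haveI : LocallyOfFinitePresentation pUniv.{u} := lfp_pUniv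
  let C := (cS S).left
  let X' : Over C := Over.mk (pS S)
  let Y' : Over C := Over.mk (pullback.snd G.hom (cS S).hom)
  haveI : IsFinite X'.hom := MorphismProperty.pullback_snd (P := @IsFinite) _ _ inferInstance
  haveI : Flat X'.hom := MorphismProperty.pullback_snd (P := @Flat) _ _ inferInstance
  haveI : LocallyOfFinitePresentation X'.hom :=
    MorphismProperty.pullback_snd (P := @LocallyOfFinitePresentation) _ _ inferInstance
  haveI : IsAffineHom Y'.hom := MorphismProperty.pullback_snd (P := @IsAffineHom) _ _ inferInstance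
  obtain ⟨M', ev', -, -, hlfp, huniv⟩ := SGA3cLib.HomScheme.exists_homScheme X' Y'
  let M : Over S := Over.mk (M'.hom ≫ (cS S).hom)
  let π : M ⟶ cS S := Over.homMk M'.hom rfl
  have hy : ev'.left ≫ pullback.snd G.hom (cS S).hom = pullback.snd (pS S) π.left ≫ M'.hom :=
    (Over.w ev').trans (pullback.condition)
  let ev : fam π ⟶ G := Over.homMk (ev'.left ≫ pullback.fst G.hom (cS S).hom) (by
    show (ev'.left ≫ _) ≫ G.hom = pullback.snd (pS S) π.left ≫ M'.hom ≫ (cS S).hom
    rw [Category.assoc, pullback.condition, reassoc_of% hy])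
  refine ⟨⟨M, π, ev, fun hG => hlfp (MorphismProperty.pullback_snd (P := @LocallyOfFinitePresentation) _ _ hG),
    fun {T} c φ => ?_⟩⟩
  let T' : Over C := Over.mk c.left
  have hφ : φ.left ≫ G.hom = (pullback.snd (pS S) c.left ≫ c.left) ≫ (cS S).hom := by
    rw [Over.w φ, Category.assoc, Over.w c]
    rfl
  let φ' : X' ⊗ T' ⟶ Y' := Over.homMk (pullback.lift φ.left (pullback.snd (pS S) c.left ≫ c.left) hφ) (by
    show _ ≫ pullback.snd G.hom (cS S).hom = _
    rw [pullback.lift_snd]
    exact pullback.condition.symm)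
  obtain ⟨v', hv', hu⟩ := huniv T' φ'
  let v : T ⟶ M := Over.homMk v'.left (by
    show v'.left ≫ M'.hom ≫ (cS S).hom = _
    rw [← Category.assoc, Over.w v']
    exact Over.w c)
  have hvc : v ≫ π = c := Over.OverMorphism.ext (Over.w v')
  have hmap : ∀ (w : T ⟶ M) (hw : w ≫ π = c),
      (X' ◁ (Over.homMk w.left (congrArg CommaMorphism.left hw) : T' ⟶ M')).left = (famMap w hw).left := by
    intro w hw
    apply pullback.hom_ext
    · exact (Over.whiskerLeft_left_fst _).trans (pullback.lift_fst _ _ _).symm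
    · exact (Over.whiskerLeft_left_snd _).trans (pullback.lift_snd _ _ _).symm
  refine ⟨v, ⟨hvc, Over.OverMorphism.ext ?_⟩, fun w ⟨hw, hwe⟩ => ?_⟩
  · show (famMap v hvc).left ≫ ev'.left ≫ pullback.fst _ _ = φ.left
    rw [← hmap v hvc]
    have h := congrArg CommaMorphism.left hv'
    exact (Category.assoc _ _ _).symm.trans ((congrArg (· ≫ pullback.fst _ _) h).trans (pullback.lift_fst _ _ _))
  · have h := hu (Over.homMk w.left (congrArg CommaMorphism.left hw)) (Over.OverMorphism.ext (by
      show (X' ◁ _).left ≫ ev'.left = φ'.left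
      rw [hmap w hw]
      apply pullback.hom_ext
      · rw [Category.assoc]
        exact (congrArg CommaMorphism.left hwe).trans (pullback.lift_fst _ _ _).symm
      · rw [Category.assoc]
        refine ((congrArg ((famMap w hw).left ≫ ·) hy).trans ?_).trans (pullback.lift_snd _ _ _).symm
        show pullback.lift _ _ _ ≫ pullback.snd (pS S) π.left ≫ M'.hom = _
        rw [pullback.lift_snd_assoc, Category.assoc]
        exact congrArg (pullback.snd (pS S) c.left ≫ ·) (congrArg CommaMorphism.left hw)))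
    have h2 := congrArg CommaMorphism.left h
    exact Over.OverMorphism.ext h2

namespace Univ

variable {G : Over S} (U : Univ G)

/-- The map classifying a family. -/
def classify {T : Over S} (c : T ⟶ cS S) (φ : fam c ⟶ G) : T ⟶ U.M := (U.univ c φ).exists.choose

theorem classify_π {T : Over S} (c : T ⟶ cS S) (φ : fam c ⟶ G) : U.classify c φ ≫ U.π = c :=
  (U.univ c φ).exists.choose_spec.1

theorem famMap_classify {T : Over S} (c : T ⟶ cS S) (φ : fam c ⟶ G) (h : U.classify c φ ≫ U.π = c) :
    famMap (U.classify c φ) h ≫ U.ev = φ :=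
  (U.univ c φ).exists.choose_spec.2

theorem eq_classify {T : Over S} {c : T ⟶ cS S} {φ : fam c ⟶ G} {v : T ⟶ U.M} (h : v ≫ U.π = c)
    (e : famMap v h ≫ U.ev = φ) : v = U.classify c φ :=
  (U.univ c φ).unique ⟨h, e⟩ ⟨U.classify_π c φ, U.famMap_classify c φ _⟩

variable [GrpObj G]

/-- Translation. -/
def smul {T : Over S} (g : T ⟶ G) (x : T ⟶ U.M) : T ⟶ U.M :=
  U.classify (x ≫ U.π) ((famπ (x ≫ U.π) ≫ g) * (famMap x rfl ≫ U.ev))

theorem smul_eq {T : Over S} (g : T ⟶ G) (x : T ⟶ U.M) {c : T ⟶ cS S} (hc : x ≫ U.π = c) :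
    U.smul g x = U.classify c ((famπ c ≫ g) * (famMap x hc ≫ U.ev)) := by
  subst hc; rfl

theorem comp_smul {T' T : Over S} (k : T' ⟶ T) (g : T ⟶ G) (x : T ⟶ U.M) :
    k ≫ U.smul g x = U.smul (k ≫ g) (k ≫ x) := by
  have hc : (k ≫ U.smul g x) ≫ U.π = k ≫ x ≫ U.π := by
    rw [Category.assoc]
    exact congrArg (k ≫ ·) (U.classify_π _ _)
  rw [smul_eq U (k ≫ g) (k ≫ x) (c := k ≫ x ≫ U.π) (Category.assoc _ _ _)]
  refine U.eq_classify hc ?_
  rw [← famMap_comp (c' := x ≫ U.π) k rfl (U.smul g x) (U.classify_π _ _), Category.assoc]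
  refine (congrArg (famMap k rfl ≫ ·) (U.famMap_classify _ _ _)).trans ?_
  refine (MonObj.comp_mul _ _ _).trans (congrArg₂ (· * ·) ?_ ?_)
  · exact (Category.assoc _ _ _).symm.trans ((congrArg (· ≫ g) (famMap_π k rfl)).trans (Category.assoc _ _ _))
  · exact (Category.assoc _ _ _).symm.trans (congrArg (· ≫ U.ev) (famMap_comp _ _ _ _))

theorem one_smul {T : Over S} (x : T ⟶ U.M) : U.smul 1 x = x := by
  symm
  refine U.eq_classify rfl ?_
  rw [MonObj.comp_one, _root_.one_mul]

theorem mul_smul {T : Over S} (g h : T ⟶ G) (x : T ⟶ U.M) : U.smul (g * h) x = U.smul g (U.smul h x) := by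
  rw [smul_eq U g (U.smul h x) (c := x ≫ U.π) (U.classify_π _ _)]
  show U.classify (x ≫ U.π) _ = _
  congr 1
  rw [MonObj.comp_mul, _root_.mul_assoc]
  congr 1
  exact (U.famMap_classify _ _ _).symm

theorem free {T : Over S} (g : T ⟶ G) (x : T ⟶ U.M) (h : U.smul g x = x) : g = 1 := by
  have h1 : famMap (U.smul g x) (U.classify_π _ _) ≫ U.ev = (famπ (x ≫ U.π) ≫ g) * (famMap x rfl ≫ U.ev) :=
    U.famMap_classify _ _ _
  rw [famMap_congr h (U.classify_π _ _) rfl] at h1
  have h2 : famπ (x ≫ U.π) ≫ g = 1 := by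
    have h3 := h1.symm
    rwa [mul_eq_right] at h3
  haveI := epi_famπ (x ≫ U.π)
  rw [← cancel_epi (famπ (x ≫ U.π)), h2, MonObj.comp_one]

/-- The action by translation. -/
def action : AlgGrp.Action G U.M where
  act := U.smul (fst G U.M) (snd G U.M)
  one_act := by
    rw [comp_smul, whiskerRight_fst, whiskerRight_snd, leftUnitor_hom]
    have e : fst (𝟙_ (Over S)) U.M ≫ η[G] = 1 := by
      rw [Hom.one_def, toUnit_unique (fst _ _) (toUnit _)]
    rw [e, one_smul]
  mul_act := by
    rw [comp_smul, comp_smul, comp_smul, whiskerRight_fst, whiskerRight_snd]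
    have e : fst (G ⊗ G) U.M ≫ μ[G] = (fst _ _ ≫ fst G G) * (fst _ _ ≫ snd G G) := by
      rw [Hom.mul_def, ← comp_lift, lift_fst_snd, Category.comp_id]
    rw [e, mul_smul, whiskerLeft_fst, whiskerLeft_snd, comp_smul, comp_smul]
    simp

theorem action_smul {T : Over S} (g : T ⟶ G) (x : T ⟶ U.M) : smulPt U.action g x = U.smul g x := by
  show lift g x ≫ U.smul _ _ = _
  rw [comp_smul, lift_fst, lift_snd]

theorem action_free {T : Over S} (g : T ⟶ G) (x : T ⟶ U.M) (h : smulPt U.action g x = x) : g = 1 :=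
  U.free g x ((U.action_smul g x).symm.trans h)

end Univ

end Groth.Agent.Stk19b.FlatQuot
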